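import Cfsg.Agent.SM.Uc.Diag
import Cfsg.Agent.H89.Reg.Res

/-!
# SM (S3570): `T = SU_5(2)` in `S = PSU_6(2)`, normal form of the embedding (helper64)

`exists_psi` : `T` is the image of `SU_5(2)`; `exists_ext` : every identification `ψ` of `SU_5(2)` with `T` extends to an
identification of `PSU_6(2)` with `S` (block diagonal embedding `emb`).
-/

set_option autoImplicit false
set_option linter.unusedSectionVars false

namespace Cfsg.Agent.SM.Uc

open Cfsg Equiv Subgroup MulAction Matrix Cfsg.Agent.SM.U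
open Cfsg.Agent.LieClassical.HermBasic Cfsg.Agent.LieClassical.HermSiegel
open Cfsg.Agent.ClassicalGeometry Cfsg.Agent.ClassicalGeometry.PSUAutCount
open Cfsg.Agent.H674.SUBlock
open Cfsg.Agent.LieClassical.FieldTransfer (centralQuotientCongr)

variable {F : Type} [Field F] [Fintype F]

/-- the block diagonal embedding -/
def emb (hF : Fintype.card F = 2 ^ 2) : SU 5 F 2 →* PSU (5 + 1) F 2 := (pr : SU (5 + 1) F 2 →* _).comp (ext hF 1)

theorem emb_injective (hF : Fintype.card F = 2 ^ 2) : Function.Injective (emb hF) :=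
  pr_ext_injective hF (by norm_num) (by norm_num)

/-- the last basis vector -/
def lst (F : Type) [Field F] : Fin (5 + 1) → F := Pi.single (Fin.natAdd 5 0) 1

theorem lst_ne : lst F ≠ 0 := fun h => by
  have := congrFun h (Fin.natAdd 5 0)
  simp [lst] at this

theorem herm_lst (hF : Fintype.card F = 2 ^ 2) : hermForm (5 + 1) F 2 (lst F) (lst F) = 1 := by
  rw [lst, herm_single_right hF]
  simp

theorem blk_cast_nat (A : Matrix (Fin 5) (Fin 5) F) (B : Matrix (Fin 1) (Fin 1) F) (i : Fin 5) (j : Fin 1) :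
    blk A B (Fin.castAdd 1 i) (Fin.natAdd 5 j) = 0 := by
  rw [blk, reindex_apply, submatrix_apply, finSumFinEquiv_symm_apply_castAdd, finSumFinEquiv_symm_apply_natAdd]
  rfl

theorem blk_nat_cast (A : Matrix (Fin 5) (Fin 5) F) (B : Matrix (Fin 1) (Fin 1) F) (i : Fin 5) (j : Fin 1) :
    blk A B (Fin.natAdd 5 j) (Fin.castAdd 1 i) = 0 := by
  rw [blk, reindex_apply, submatrix_apply, finSumFinEquiv_symm_apply_castAdd, finSumFinEquiv_symm_apply_natAdd]
  rfl

theorem act_ext_lst (hF : Fintype.card F = 2 ^ 2) (g : SU 5 F 2) : act (ext hF 1 g) (lst F) = lst F := by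
  funext i
  rw [lst, act_single]
  show blk _ _ i _ = _
  refine Fin.addCases (fun j => ?_) (fun j => ?_) i
  · rw [blk_cast_nat, Pi.single_eq_of_ne]
    exact fun h => by
      have := congrArg Fin.val h
      simp at this
      omega
  · rw [blk_natAdd, Subsingleton.elim j 0, Pi.single_eq_same, one_apply_eq]

theorem range_ext (hF : Fintype.card F = 2 ^ 2) : (ext hF 1 : SU 5 F 2 →* _).range = H89.Reg.fixV 2 (lst F) := by
  refine eq_of_le_of_card_ge (by rintro _ ⟨g, rfl⟩; exact act_ext_lst hF g) ?_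
  rw [H89.Reg.card_fixV hF (by rw [herm_lst hF]; exact one_ne_zero)]
  exact (Nat.card_congr (MonoidHom.ofInjective (ext_injective hF)).toEquiv).le

theorem range_emb (hF : Fintype.card F = 2 ^ 2) : (emb hF).range = Pt 2 (lst F) := by
  ext x
  obtain ⟨g, rfl⟩ := pr_surjective x
  constructor
  · rintro ⟨k, hk⟩
    rw [← hk]
    exact (pr_mem_Pt hF (by norm_num) lst_ne).2 ⟨1, by rw [act_ext_lst, one_smul]⟩
  · intro h
    obtain ⟨c, hc⟩ := (pr_mem_Pt hF (by norm_num) lst_ne).1 h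
    have h1 : c ^ (2 + 1) = 1 := by
      have h2 := herm_act g (lst F) (lst F)
      rw [hc, herm_smul_left, herm_smul_right, herm_lst hF, mul_one] at h2
      rw [pow_succ', h2]
    have h2 : c ^ (5 + 1) = 1 := by rw [show 5 + 1 = (2 + 1) * 2 from rfl, pow_mul, h1, one_pow]
    have h3 := PSUAutBasic.act_suScalar h2 h1
    have h4 : (LieClassical.SUBasic.suScalar 2 c h2 h1)⁻¹ * g ∈ H89.Reg.fixV 2 (lst F) := by
      rw [H89.Reg.mem_fixV, act_mul, hc, ← h3, act_inv_act]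
    rw [← range_ext hF] at h4
    obtain ⟨k, hk⟩ := h4
    refine ⟨k, ?_⟩
    show pr (ext hF 1 k) = _
    rw [hk, map_mul, map_inv, (pr_eq_one_iff _).2 (PSUAutBasic.mem_center_of_act h3), inv_one, one_mul]

theorem pr_injective5 (hF : Fintype.card F = 2 ^ 2) : Function.Injective (pr : SU 5 F 2 →* PSU 5 F 2) := by
  rw [injective_iff_map_eq_one]
  intro g hg
  have h1 : Nat.card (center (SU 5 F 2)) = 1 := S0279.result hF 5 (by norm_num)
  have h2 := (pr_eq_one_iff g).1 hg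
  rwa [card_eq_one.1 h1, mem_bot] at h2

/-- the automorphisms of `SU_5(2)` extend -/
theorem exists_aut_ext (hF : Fintype.card F = 2 ^ 2) (α : SU 5 F 2 ≃* SU 5 F 2) :
    ∃ β : MulAut (PSU (5 + 1) F 2), ∀ g, β (emb hF g) = emb hF (α g) := by
  obtain ⟨A, ρ, h⟩ := PSUAutMain.exists_toAut hF (by norm_num) (by norm_num) (centralQuotientCongr α)
  have h1 : ∀ g, α g = semiConj A ρ g := fun g => pr_injective5 hF (by
    show centralQuotientCongr α (pr g) = toAut A ρ (pr g)
    rw [h])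
  have hA : (gm A)ᵀ * (gm A).map (LieClassical.GUOrder.frob hF) = 1 :=
    (LieClassical.GUOrder.mul_map_eq_one_iff hF _).1 (herm_gm A)
  obtain ⟨g₀, hg₀, e₀⟩ := HermOrtho.exists_GU_of_isometry hF (M := blk (gm A) (1 : Matrix (Fin 1) (Fin 1) F))
    ((LieClassical.GUOrder.mul_map_eq_one_iff hF _).2 (isom_blk hF hA (isom_one hF)))
  refine ⟨toAut ⟨g₀, hg₀⟩ ρ, fun g => ?_⟩
  rw [h1]
  show pr (semiConj ⟨g₀, hg₀⟩ ρ (ext hF 1 g)) = pr (ext hF 1 (semiConj A ρ g))
  congr 1
  apply mat_injective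
  have e1 : gm (⟨g₀, hg₀⟩ : GU (5 + 1) F 2) = blk (gm A) 1 := e₀
  show gm (⟨g₀, hg₀⟩ : GU (5 + 1) F 2) * (blk (mat g) (1 : Matrix (Fin 1) (Fin 1) F)).map (ρ : F →+* F) *
    gm (⟨g₀, hg₀⟩ : GU (5 + 1) F 2)⁻¹ = blk (gm A * (mat g).map (ρ : F →+* F) * gm A⁻¹) 1
  have e2 : blk (gm A * (mat g).map (ρ : F →+* F) * gm A⁻¹) (1 : Matrix (Fin 1) (Fin 1) F) *
      gm (⟨g₀, hg₀⟩ : GU (5 + 1) F 2) =
      gm (⟨g₀, hg₀⟩ : GU (5 + 1) F 2) * (blk (mat g) (1 : Matrix (Fin 1) (Fin 1) F)).map (ρ : F →+* F) := by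
    rw [e1, map_blk, ← blk_mul, ← blk_mul, mul_assoc, gm_inv_mul, mul_one, Matrix.map_one _ (map_zero _) (map_one _)]
  rw [← e2, mul_assoc, gm_mul_inv, mul_one]

variable {Ω : Type} [Fintype Ω] [DecidableEq Ω] {T S : Subgroup (Perm Ω)}

theorem exists_std (hF : Fintype.card F = 2 ^ 2) (hTS : T ≤ S) (e : S ≃* PSU 6 F 2) {w : Fin 6 → F}
    (hw : hermForm 6 F 2 w w ≠ 0) (hT : im e T = Pt 2 w) :
    ∃ e' : S ≃* PSU (5 + 1) F 2, ((rep e').comp (emb hF)).range = T := by
  have hw0 : w ≠ 0 := by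
    rintro rfl
    exact hw (herm_zero_left _)
  obtain ⟨P, hP, h⟩ := HermOrtho.exists_GU_adapted hF (k := 1) (m := 5) ((Equiv.sumComm _ _).trans finSumFinEquiv)
    (F ∙ w) (fun u hu k => by
      obtain ⟨c, rfl⟩ := Submodule.mem_span_singleton.1 hu
      have := k w (Submodule.mem_span_singleton_self w)
      rw [herm_smul_left, mul_eq_zero] at this
      rw [this.resolve_right hw, zero_smul]) (finrank_span_singleton hw0)
  have h1 : ∀ x : PSU (5 + 1) F 2, x ∈ Pt 2 (lst F) ↔ toAut ⟨P, hP⟩ 1 x ∈ Pt 2 w :=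
    toAut_mem_St hF (by norm_num) ⟨P, hP⟩ 1 fun v => by
      refine Iff.trans ?_ (h v).symm
      rw [Submodule.mem_span_singleton]
      constructor
      · rintro ⟨c, rfl⟩ j
        show c * lst F (Fin.castAdd 1 j) = 0
        rw [lst, Pi.single_eq_of_ne, mul_zero]
        exact fun h => by
          have := congrArg Fin.val h
          simp at this
          omega
      · intro k
        refine ⟨v (Fin.natAdd 5 0), funext fun i => ?_⟩
        refine Fin.addCases (fun j => ?_) (fun j => ?_) i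
        · rw [show v (Fin.castAdd 1 j) = 0 from k j, Pi.smul_apply, lst, Pi.single_eq_of_ne, smul_zero]
          exact fun h => by
            have := congrArg Fin.val h
            simp at this
            omega
        · rw [Subsingleton.elim j 0, Pi.smul_apply, lst, Pi.single_eq_same, smul_eq_mul, mul_one]
  refine ⟨e.trans (toAut ⟨P, hP⟩ 1).symm, ?_⟩
  ext t
  constructor
  · rintro ⟨g, rfl⟩
    show rep e (toAut ⟨P, hP⟩ 1 (emb hF g)) ∈ T
    rw [← mem_im_rep, hT, ← h1, ← range_emb hF]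
    exact ⟨g, rfl⟩
  · intro ht
    obtain ⟨x, rfl⟩ : t ∈ (rep e).range := (range_rep e).symm ▸ hTS ht
    obtain ⟨y, rfl⟩ := (toAut ⟨P, hP⟩ 1).surjective x
    rw [← mem_im_rep, hT, ← h1, ← range_emb hF] at ht
    obtain ⟨g, rfl⟩ := ht
    exact ⟨g, rfl⟩

/-- `T` is the image of `SU_5(2)` -/
theorem exists_psi (hF : Fintype.card F = 2 ^ 2) (hTS : T ≤ S) (e : S ≃* PSU 6 F 2) {w : Fin 6 → F}
    (hw : hermForm 6 F 2 w w ≠ 0) (hT : im e T = Pt 2 w) :
    ∃ ψ : SU 5 F 2 →* Perm Ω, Function.Injective ψ ∧ ψ.range = T := by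
  obtain ⟨e', h⟩ := exists_std hF hTS e hw hT
  exact ⟨_, (rep_injective e').comp (emb_injective hF), h⟩

/-- **Every identification of `SU_5(2)` with `T` extends.** -/
theorem exists_ext (hF : Fintype.card F = 2 ^ 2) (hTS : T ≤ S) (e : S ≃* PSU 6 F 2) {w : Fin 6 → F}
    (hw : hermForm 6 F 2 w w ≠ 0) (hT : im e T = Pt 2 w) (ψ : SU 5 F 2 →* Perm Ω) (hψ : Function.Injective ψ)
    (hr : ψ.range = T) : ∃ e' : S ≃* PSU (5 + 1) F 2, ∀ g, rep e' (emb hF g) = ψ g := by
  obtain ⟨e₁, h⟩ := exists_std hF hTS e hw hT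
  have hi : Function.Injective ((rep e₁).comp (emb hF)) := (rep_injective e₁).comp (emb_injective hF)
  let α : SU 5 F 2 ≃* SU 5 F 2 :=
    ((MonoidHom.ofInjective hψ).trans (MulEquiv.subgroupCongr (hr.trans h.symm))).trans (MonoidHom.ofInjective hi).symm
  have hα : ∀ g, rep e₁ (emb hF (α g)) = ψ g := fun g =>
    congrArg Subtype.val ((MonoidHom.ofInjective hi).apply_symm_apply _)
  obtain ⟨β, hβ⟩ := exists_aut_ext hF α
  exact ⟨e₁.trans β.symm, fun g => by
    show rep e₁ (β (emb hF g)) = _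
    rw [hβ, hα]⟩

theorem card_su5 (hF : Fintype.card F = 2 ^ 2) : Nat.card (SU 5 F 2) = 13685760 := by
  have h := S0278.result hF 5 (by norm_num)
  have h1 : (2 : ℕ) ^ (5 * (5 - 1) / 2) * ∏ i ∈ Finset.range 5, (if Even i then 2 ^ (i + 1) + 1 else 2 ^ (i + 1) - 1) =
    41057280 := by decide
  omega

theorem card_of_psi (hF : Fintype.card F = 2 ^ 2) {ψ : SU 5 F 2 →* Perm Ω} (hψ : Function.Injective ψ)
    (hr : ψ.range = T) : Nat.card T = 13685760 := by
  rw [← hr, ← card_su5 hF]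
  exact (Nat.card_congr (MonoidHom.ofInjective hψ).toEquiv).symm

end Cfsg.Agent.SM.Uc
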