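import Cfsg.Agent.SM.Uc.Main
import Cfsg.Agent.SM.U.Final
import Cfsg.Agent.SM.Ar.Main

/-!
# SM (S3570): the bound for the unitary socles (helper64)
-/

set_option autoImplicit false

namespace Cfsg.Agent.SM.Uc

/-- **The unitary family.** -/
theorem bndU : Bnd fU Ar.RU := (bnd_U U.boxRows).mono fun t n k h => ⟨4, by
  rcases h with ⟨-, -, rfl⟩ | ⟨-, -, rfl⟩ | ⟨-, -, rfl⟩ <;> norm_num, rfl, by
  rcases h with ⟨h1, h2, -⟩ | ⟨h1, h2, -⟩ | ⟨h1, h2, -⟩ <;> simp [h1, h2]⟩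

end Cfsg.Agent.SM.Uc
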