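import Cfsg.Agent.SM.Uc.Pts
import Cfsg.Agent.SM.U.Bas

/-!
# SM (S3570), unitary socles: the action on the singular points (helper64)

`At e x w` : the point `x` of `Ω` is the singular point `⟨w⟩`.
-/

set_option autoImplicit false
set_option linter.unusedSectionVars false

namespace Cfsg.Agent.SM.Uc

open Cfsg Equiv Subgroup MulAction Matrix Cfsg.Agent.SM.U
open Cfsg.Agent.LieClassical.HermBasic Cfsg.Agent.LieClassical.HermSiegel Cfsg.Agent.LieClassical.HermGen
open Cfsg.Agent.H674.SUBlock (pr pr_surjective pr_eq_one_iff)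

variable {F : Type} [Field F] [Fintype F] {n q : ℕ}
variable {Ω : Type} [Fintype Ω] [DecidableEq Ω] {X H T M S : Subgroup (Perm Ω)}

/-- `x` is the point `⟨w⟩` -/
structure At (e : S ≃* PSU n F q) (x : Ω) (w : Fin n → F) : Prop where
  ne : w ≠ 0
  iso : hermForm n F q w w = 0
  fix : ∀ s, rep e s x = x ↔ s ∈ Pt q w

variable {e : S ≃* PSU n F q} {a x y : Ω} {w : Fin n → F}

theorem At.smul (h : At e x w) {c : F} (hc : c ≠ 0) : At e x (c • w) :=
  ⟨smul_ne_zero hc h.ne, by rw [herm_smul_left, herm_smul_right, h.iso, mul_zero, mul_zero], by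
    rw [Pt_smul hc]; exact h.fix⟩

theorem At.move (hF : Fintype.card F = q ^ 2) (hn : 3 ≤ n) (h : At e x w) (g : SU n F q) :
    At e (rep e (pr g) x) (act g w) := by
  refine ⟨fun k => h.ne ((act_eq_zero _).1 k), by rw [herm_act, h.iso], fun s => ?_⟩
  obtain ⟨k, rfl⟩ := pr_surjective s
  have h1 := h.fix (pr (g⁻¹ * k * g))
  rw [mem_Pt hF hn] at h1 ⊢
  simp only [map_mul, map_inv, Perm.mul_apply, Perm.inv_eq_iff_eq, act_mul] at h1
  rw [h1]
  refine exists_congr fun c => ⟨fun k => ?_, fun k => ?_⟩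
  · rw [← act_smul, ← k, act_act_inv]
  · rw [k, act_smul, act_inv_act]

theorem At.trans (u : Up X H T M S) (e : S ≃* PSU n F q) (a x : Ω) : ∃ s, rep e s a = x := by
  obtain ⟨t, ht, h⟩ := u.trans a x
  obtain ⟨s, rfl⟩ : t ∈ (rep e).range := by rw [range_rep]; exact u.le ht
  exact ⟨s, h⟩

theorem At.all (hF : Fintype.card F = q ^ 2) (hn : 3 ≤ n) (u : Up X H T M S) (h : At e a w) (x : Ω) : ∃ v, At e x v := by
  obtain ⟨s, rfl⟩ := At.trans u e a x
  obtain ⟨g, rfl⟩ := pr_surjective s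
  exact ⟨_, h.move hF hn g⟩

theorem At.all' (hF : Fintype.card F = q ^ 2) (hn : 3 ≤ n) (h : At e a w) {v : Fin n → F} (h0 : v ≠ 0)
    (hv : hermForm n F q v v = 0) : ∃ x, At e x v := by
  obtain ⟨g, -, rfl⟩ := exists_map_iso hF hn le_rfl (mem_coordSub_top w) (mem_coordSub_top v) h.ne h0 h.iso hv
  exact ⟨_, h.move hF hn g⟩

theorem At.eq (u : Up X H T M S) (h : At e x w) (h' : At e y w) : y = x :=
  u.socM.eq_of_fix u.primM u.two fun t ht k => by
    obtain ⟨s, rfl⟩ : t ∈ (rep e).range := by rw [range_rep]; exact ht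
    exact (h'.fix s).2 ((h.fix s).1 k)

/-- a permutation which induces a semilinear automorphism -/
theorem At.ind (hF : Fintype.card F = q ^ 2) (hn : 3 ≤ n) {β : MulAut (PSU n F q)} {b : MulAut (SU n F q)} {ρ : F ≃+* F}
    {φ : (Fin n → F) → (Fin n → F)} (s : Sl β b ρ φ) {π : Perm Ω} (hπ : Ind (rep e) β π) (h : At e x w) :
    At e (π x) (φ w) := by
  refine ⟨fun k => h.ne (s.inj (k.trans s.zero.symm)), by rw [s.herm, h.iso, map_zero], fun t => ?_⟩
  obtain ⟨t, rfl⟩ := β.surjective t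
  rw [s.pt hF hn, ← h.fix, ← hπ t]
  simp

/-- a normalising permutation induces an automorphism -/
theorem exists_aut {S₀ : Type} [Group S₀] (e : S ≃* S₀) {π : Perm Ω} (h : π ∈ normalizer (S : Set (Perm Ω))) :
    ∃ β : MulAut S₀, Ind (rep e) β π :=
  ⟨(e.symm.trans (normalizerMonoidHom S ⟨π, h⟩)).trans e, fun g => by
    show _ = ((e.symm (e _) : S) : Perm Ω)
    rw [e.symm_apply_apply]
    rfl⟩

/-- normalising permutations act semilinearly -/
theorem At.norm (hF : Fintype.card F = q ^ 2) (hn : 3 ≤ n) (h32 : ¬ (n = 3 ∧ q = 2)) (e : S ≃* PSU n F q) {π : Perm Ω}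
    (h : π ∈ normalizer (S : Set (Perm Ω))) : ∃ (ρ : F ≃+* F) (φ : (Fin n → F) → (Fin n → F)),
      (∀ u v, hermForm n F q (φ u) (φ v) = ρ (hermForm n F q u v)) ∧ ∀ x w, At e x w → At e (π x) (φ w) := by
  obtain ⟨β, hβ⟩ := exists_aut e h
  obtain ⟨b, ρ, φ, s⟩ := exists_sl hF hn h32 β
  exact ⟨ρ, φ, s.herm, fun _ _ => At.ind hF hn s hβ⟩

/-- every automorphism is induced by a permutation -/
theorem At.exists_ind (hF : Fintype.card F = q ^ 2) (hn : 3 ≤ n) (h32 : ¬ (n = 3 ∧ q = 2)) (u : Up X H T M S)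
    (h : At e a w) (β : MulAut (PSU n F q)) : ∃ π, Ind (rep e) β π := by
  obtain ⟨b, ρ, φ, s⟩ := exists_sl hF hn h32 β
  obtain ⟨y, hy⟩ := h.all' hF hn (v := φ w) (fun k => h.ne (s.inj (k.trans s.zero.symm))) (by rw [s.herm, h.iso, map_zero])
  obtain ⟨π, -, hπ⟩ := SM.exists_ind (rep e) β (At.trans u e a) (b := y) fun g => by rw [h.fix, hy.fix, s.pt hF hn]
  exact ⟨π, hπ⟩

/-- from the stabiliser in `SU` -/
theorem At.of_index (hF : Fintype.card F = q ^ 2) (hn : 3 ≤ n) (u : Up X H T M S) (e : S ≃* PSU n F q) (a : Ω)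
    (h : ∀ B : Subgroup (SU n F q), B.index = Fintype.card Ω → ∃ w : Fin n → F, hermForm n F q w w = 0 ∧ w ≠ 0 ∧
      B = Sb q (F ∙ w)) : ∃ w, At e a w := by
  obtain ⟨w, h1, h2, h3⟩ := h ((im e (M ⊓ stabilizer (Perm Ω) a)).comap pr) (by
    rw [index_comap_of_surjective _ pr_surjective, index_im_stab u])
  refine ⟨w, h2, h1, fun s => ?_⟩
  obtain ⟨g, rfl⟩ := pr_surjective s
  rw [← mem_im_stab u e, Pt, mem_St hF hn, ← h3, mem_comap]

end Cfsg.Agent.SM.Uc
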