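import Cfsg.Agent.SM.Nrm
import Cfsg.Agent.SM.U.Defs
import Cfsg.Agent.H183.OutPSU
import Cfsg.Agent.ClassicalGeometry.UnitTransv
import Cfsg.Agent.ClassicalGeometry.HermOrtho

/-!
# SM (S3570), unitary socles: the action of the model, and the rows killed by diagonal automorphisms (helper64)
-/

set_option autoImplicit false
set_option linter.unusedSectionVars false

namespace Cfsg.Agent.SM.Uc

open Cfsg Equiv Subgroup MulAction Matrix Cfsg.Agent.SM.U
open Cfsg.Agent.LieClassical.HermBasic Cfsg.Agent.LieClassical.HermSiegel Cfsg.Agent.LieClassical.HermGen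
open Cfsg.Agent.ClassicalGeometry Cfsg.Agent.ClassicalGeometry.PSUAutCount Cfsg.Agent.H183.OutPSU
open Cfsg.Agent.H674.SUBlock (pr pr_surjective pr_eq_one_iff)

section model

variable {Ω : Type} [Fintype Ω] [DecidableEq Ω] {X H T M S : Subgroup (Perm Ω)} {S₀ : Type} [Group S₀]

/-- the action of the model -/
def rep (e : S ≃* S₀) : S₀ →* Perm Ω := S.subtype.comp e.symm.toMonoidHom

theorem range_rep (e : S ≃* S₀) : (rep e).range = S := by
  ext g
  exact ⟨fun ⟨x, hx⟩ => hx ▸ (e.symm x).2, fun h => ⟨e ⟨g, h⟩, congrArg Subtype.val (e.symm_apply_apply ⟨g, h⟩)⟩⟩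

theorem rep_mem (e : S ≃* S₀) (x : S₀) : rep e x ∈ S := (e.symm x).2

theorem rep_injective (e : S ≃* S₀) : Function.Injective (rep e) := Subtype.val_injective.comp e.symm.injective

theorem mem_im_rep (e : S ≃* S₀) {Y : Subgroup (Perm Ω)} {x : S₀} : x ∈ im e Y ↔ rep e x ∈ Y := mem_im e

theorem mem_im_stab (u : Up X H T M S) (e : S ≃* S₀) (a : Ω) {x : S₀} :
    x ∈ im e (M ⊓ stabilizer (Perm Ω) a) ↔ rep e x a = a :=
  (mem_im e).trans ⟨fun h => h.2, fun h => ⟨u.socM.le (rep_mem e x), h⟩⟩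

/-- the index of the stabiliser is the degree -/
theorem index_im_stab (u : Up X H T M S) (e : S ≃* S₀) (a : Ω) :
    (im e (M ⊓ stabilizer (Perm Ω) a)).index = Fintype.card Ω := by
  rw [index_im, ← (u.fac a).relIndex_eq, u.relIndex]

end model

section geo

variable {F : Type} [Field F] [Fintype F] {n q : ℕ}

theorem pr_mem_St (hF : Fintype.card F = q ^ 2) (hn : 3 ≤ n) {W : Submodule F (Fin n → F)} {g : SU n F q} :
    pr g ∈ St q W ↔ g ∈ Sb q W := by
  refine ⟨?_, fun h => ⟨g, h, rfl⟩⟩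
  rintro ⟨k, hk, e⟩
  have hz : k⁻¹ * g ∈ center (SU n F q) := (pr_eq_one_iff _).1 (by rw [map_mul, map_inv, e, inv_mul_cancel])
  obtain ⟨c, hc, -, h⟩ := PSUAutBasic.exists_scalar_of_mem_center hF hn hz
  have h1 : k⁻¹ * g ∈ Sb q W := fun v => by
    rw [show act (k⁻¹ * g) v = c • v from h v]
    exact (W.smul_mem_iff hc).symm
  simpa using (Sb q W).mul_mem hk h1

theorem mem_Sb_span {w : Fin n → F} (hw : w ≠ 0) {g : SU n F q} : g ∈ Sb q (F ∙ w) ↔ ∃ c : F, act g w = c • w := by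
  constructor
  · intro h
    obtain ⟨c, hc⟩ := Submodule.mem_span_singleton.1 ((h w).1 (Submodule.mem_span_singleton_self w))
    exact ⟨c, hc.symm⟩
  · rintro ⟨c, hc⟩ v
    have h0 : c ≠ 0 := by
      rintro rfl
      rw [zero_smul, act_eq_zero] at hc
      exact hw hc
    simp only [Submodule.mem_span_singleton]
    constructor
    · rintro ⟨d, rfl⟩
      exact ⟨d * c, by rw [act_smul, hc, smul_smul]⟩
    · rintro ⟨d, hd⟩
      refine ⟨d / c, act_injective g ?_⟩
      rw [act_smul, hc, smul_smul, div_mul_cancel₀ _ h0, hd]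

theorem pr_mem_Pt (hF : Fintype.card F = q ^ 2) (hn : 3 ≤ n) {w : Fin n → F} (hw : w ≠ 0) {g : SU n F q} :
    pr g ∈ Pt q w ↔ ∃ c : F, act g w = c • w := (pr_mem_St hF hn).trans (mem_Sb_span hw)

/-- semilinear automorphisms and stabilisers of subspaces -/
theorem toAut_mem_St (hF : Fintype.card F = q ^ 2) (hn : 3 ≤ n) (A : GU n F q) (ρ : F ≃+* F)
    {W W' : Submodule F (Fin n → F)} (h : ∀ v, v ∈ W ↔ (gm A *ᵥ fun i => ρ (v i)) ∈ W') (x : PSU n F q) :
    x ∈ St q W ↔ toAut A ρ x ∈ St q W' := by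
  obtain ⟨g, rfl⟩ := pr_surjective x
  rw [show toAut A ρ (pr g) = pr (semiConj A ρ g) from rfl, pr_mem_St hF hn, pr_mem_St hF hn]
  constructor
  · intro hg v
    obtain ⟨y, rfl⟩ : ∃ y : Fin n → F, v = gm A *ᵥ fun i => ρ (y i) :=
      ⟨fun i => ρ.symm ((gm A⁻¹ *ᵥ v) i), by
        simp only [RingEquiv.apply_symm_apply]
        exact (gm_mulVec_inv A v).symm⟩
    rw [act_semiConj, ← h, ← h]
    exact hg y
  · intro hg v
    rw [h, h, ← act_semiConj]
    exact hg _

/-- the reflection `x ↦ x + (c - 1) h(x, u) u` -/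
theorem exists_refl (hF : Fintype.card F = q ^ 2) {u : Fin n → F} (hu : hermForm n F q u u = 1) {c : F}
    (hc : c * c ^ q = 1) : ∃ A : GU n F q, (gm A).det = c ∧ ∀ x, gm A *ᵥ x = x + ((c - 1) * hermForm n F q x u) • u := by
  have h1 : ∀ x, UnitTransv.rankOne q ((c - 1) • u) u *ᵥ x = x + ((c - 1) * hermForm n F q x u) • u := fun x => by
    rw [UnitTransv.rankOne_mulVec, smul_smul, mul_comm]
  obtain ⟨g, hg, e⟩ := HermOrtho.exists_GU_of_isometry hF (M := UnitTransv.rankOne q ((c - 1) • u) u) fun x y => by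
    rw [h1, h1]
    simp only [herm_add_left, herm_add_right hF, herm_smul_left, herm_smul_right, hu, mul_pow, sub_pow_q hF, one_pow,
      ← herm_swap hF y u]
    linear_combination (hermForm n F q x u * hermForm n F q u y) * hc
  refine ⟨⟨g, hg⟩, ?_, fun x => ?_⟩
  · rw [gm_def, e, UnitTransv.det_rankOne, herm_smul_left, hu]
    ring
  · rw [gm_def, e, h1]

variable {Ω : Type} [Fintype Ω] [DecidableEq Ω] {X H T M S : Subgroup (Perm Ω)}

/-- **The normaliser trick for diagonal automorphisms.** -/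
theorem det_of_fix (hF : Fintype.card F = q ^ 2) (hn : 3 ≤ n) (u : Up X H T M S) (e : S ≃* PSU n F q) (a : Ω)
    {W : Submodule F (Fin n → F)} (hB : im e (M ⊓ stabilizer (Perm Ω) a) = St q W) (A : GU n F q)
    (hA : ∀ v, v ∈ W ↔ gm A *ᵥ v ∈ W) {k : ℕ} (hk : Odd k) (hAk : A ^ k = 1) (hc : k.Coprime (Nat.card (Out T))) :
    ∃ c : F, c * c ^ q = 1 ∧ (gm A).det = c ^ n := by
  obtain ⟨d, hd⟩ := u.inner (rep e) (range_rep e) (cG n q F A) (a := a) (b := a) (fun g => by
    rw [← mem_im_stab u e, ← mem_im_stab u e, hB]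
    exact toAut_mem_St hF hn A 1 hA g) hk 1 (fun g => by rw [← map_pow, hAk, map_one, one_mul, inv_one, mul_one]; rfl) hc
  obtain ⟨g, rfl⟩ := pr_surjective d
  obtain ⟨A', hA'⟩ := exists_GU_of_SU g
  have h1 : toAut A' 1 = toAut A 1 := by
    rw [← cG_apply, ← cG_apply, cG_of_SU g A' hA']
    exact MulEquiv.ext fun x => (rep_injective e (hd x)).symm
  obtain ⟨-, c, h2, h3⟩ := eq_of_toAut_eq hF hn h1
  exact ⟨c, h2, by rw [h3, det_smul, hA', det_mat, Fintype.card_fin, mul_one]⟩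

/-- **Row 4 is dead.** -/
theorem row4 (hF : Fintype.card F = 2 ^ 2) (hn : 3 ≤ n) (h3 : 3 ∣ n) (u : Up X H T M S) (e : S ≃* PSU n F 2) (a : Ω)
    {w : Fin n → F} (hw : w ≠ 0) (hB : im e (M ⊓ stabilizer (Perm Ω) a) = Pt 2 w) : 3 ∣ Nat.card (Out T) := by
  by_contra ho
  obtain ⟨c, hc, hc1⟩ := GUBasic.exists_norm_one hF
  have hc' : c * c ^ 2 = 1 := by rw [← pow_succ', hc]
  obtain ⟨r, hr, hrw⟩ : ∃ r : Fin n → F, hermForm n F 2 r r = 1 ∧ (hermForm n F 2 w r = 0 ∨ r = w) := by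
    by_cases h : hermForm n F 2 w w = 0
    · obtain ⟨z, -, hz, hwz, -⟩ := exists_iso_common hF (mem_coordSub_top w) (mem_coordSub_top w) hw hw h h
      obtain ⟨r, -, h1, -, h2⟩ := exists_perp hF hn le_rfl (mem_coordSub_top w) (mem_coordSub_top z) h hz hwz
        (one_pow 2)
      exact ⟨r, h2, Or.inl (herm_eq_zero_swap hF h1)⟩
    · refine ⟨w, ?_, Or.inr rfl⟩
      have h1 := herm_self_pow hF w
      exact mul_left_cancel₀ h (by rw [← sq, h1, mul_one])
  obtain ⟨A, hd, hA⟩ := exists_refl hF hr hc'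
  have h1 : ∃ t : F, t ≠ 0 ∧ gm A *ᵥ w = t • w := by
    rcases hrw with h | rfl
    · exact ⟨1, one_ne_zero, by rw [hA, h, mul_zero, zero_smul, add_zero, one_smul]⟩
    · refine ⟨c, fun h => by simp [h] at hc, ?_⟩
      rw [hA, hr, mul_one, sub_smul, one_smul, add_sub_cancel]
  obtain ⟨t, ht, h1⟩ := h1
  obtain ⟨d, h4, h5⟩ := det_of_fix hF hn u e a hB A (fun v => by
    simp only [Submodule.mem_span_singleton]
    constructor
    · rintro ⟨s, rfl⟩
      exact ⟨s * t, by rw [mulVec_smul, h1, smul_smul]⟩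
    · rintro ⟨s, hs⟩
      refine ⟨s / t, ?_⟩
      rw [← gm_inv_mulVec A v, ← hs, ← gm_inv_mulVec A ((s / t) • w), mulVec_smul (gm A), h1, smul_smul,
        div_mul_cancel₀ _ ht]) (k := 3) (by decide) (by
    apply gm_inj
    apply toLin'.injective
    refine LinearMap.ext fun x => ?_
    rw [toLin'_apply, toLin'_apply, pow_succ, sq, gm_mul, gm_mul, ← mulVec_mulVec, ← mulVec_mulVec, gm_one, one_mulVec]
    simp only [hA, herm_add_left, herm_smul_left, hr, add_assoc, ← add_smul]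
    rw [add_eq_left, smul_eq_zero]
    left
    linear_combination (hermForm n F 2 x r) * hc') ((Nat.Prime.coprime_iff_not_dvd Nat.prime_three).2 ho)
  obtain ⟨m, rfl⟩ := h3
  rw [hd, pow_mul, pow_succ' d 2, h4, one_pow] at h5
  exact hc1 h5

end geo

end Cfsg.Agent.SM.Uc
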