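import Cfsg.Agent.SM.Uc.R14
import Cfsg.Agent.S0242

/-!
# SM (S3570): `L₃(4)` on 280 points has three invariant sets of size 243 (helper64)

The points are the Hermitian forms `g g*`; the suborbits have lengths `1, 9, 18, 18, 18, 72, 72, 72`.
-/

set_option autoImplicit false
set_option linter.unusedSectionVars false

namespace Cfsg.Agent.SM.Uc.L34

open Cfsg Matrix Cfsg.Agent.SporadicA.FieldFour F4 Subgroup Cfsg.Agent.SM.Uj Equiv MulAction Cfsg.Agent.SM.Uc.Mo
open Cfsg.Agent.H852.USixElts (frob)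

/-- `P` is the code of an additive map -/
def RA (P : ℕ) (α : V →+ V) : Prop := ∀ k < 12, dec (get P k) = α (dec (2 ^ k))

theorem RA.apN {P : ℕ} {α : V →+ V} (h : RA P α) (v : ℕ) : ∀ n, n ≤ 12 → dec (apN P v n) = α (dec (v % 2 ^ n))
  | 0, _ => by rw [pow_zero, Nat.mod_one, dec_zero, map_zero]; exact dec_zero
  | n + 1, hn => by
    have ih := h.apN v n (by omega)
    have h1 : Uj.apN P v (n + 1) = Bool.rec (Uj.apN P v n) (Uj.apN P v n ^^^ get P n) (tb v n) := rfl
    rw [h1, tb_eq]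
    cases h2 : v.testBit n
    · have h3 : v % 2 ^ (n + 1) = v % 2 ^ n := Nat.eq_of_testBit_eq fun i => by
        rw [Nat.testBit_mod_two_pow, Nat.testBit_mod_two_pow]
        by_cases k : i = n
        · simp [k, h2]
        · congr 1
          exact decide_eq_decide.2 (by omega)
      rw [h3]
      exact ih
    · have h3 : v % 2 ^ (n + 1) = v % 2 ^ n ^^^ 2 ^ n := Nat.eq_of_testBit_eq fun i => by
        rw [Nat.testBit_xor, Nat.testBit_mod_two_pow, Nat.testBit_mod_two_pow, Nat.testBit_two_pow]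
        by_cases k : i = n
        · simp [k, h2]
        · rw [decide_eq_false (show ¬ n = i from fun e => k e.symm), Bool.xor_false]
          congr 1
          exact decide_eq_decide.2 (by omega)
      show dec (_ ^^^ _) = _
      rw [h3, dec_xor, dec_xor, map_add, ih, h n (by omega)]

theorem RA.app {P : ℕ} {α : V →+ V} (h : RA P α) (v : ℕ) : dec (app P v) = α (dec v) := by
  show dec (_ % 4096) = _
  rw [dec_mod, h.apN v 12 le_rfl]
  exact congrArg _ (dec_mod v)

/-- matrices -/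
abbrev M3 : Type := Matrix (Fin 3) (Fin 3) F4

/-- the group -/
abbrev G3 : Type := SpecialLinearGroup (Fin 3) F4

/-- conjugate transpose -/
def ct (A : M3) : M3 := (A.map frob)ᵀ

theorem ct_mul (A B : M3) : ct (A * B) = ct B * ct A := by rw [ct, Matrix.map_mul, transpose_mul, ct, ct]

theorem frob_frob : ∀ x, frob (frob x) = x := by decide

theorem ct_ct (A : M3) : ct (ct A) = A := Matrix.ext fun i j => frob_frob (A i j)

/-- the coordinates of a Hermitian matrix -/
def vec (J : M3) : V := ![J 0 0, J 1 1, J 2 2, J 0 1, J 0 2, J 1 2]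

/-- the Hermitian matrix -/
def hm (v : V) : M3 := !![v 0, v 3, v 4; frob (v 3), v 1, v 5; frob (v 4), frob (v 5), v 2]

theorem hm_vec {J : M3} (h : ct J = J) : hm (vec J) = J := by
  ext i j
  have k := congrFun (congrFun h i) j
  fin_cases i <;> fin_cases j
  exacts [rfl, rfl, rfl, k, rfl, rfl, k, k, rfl]

theorem vec_add (J J' : M3) : vec (J + J') = vec J + vec J' := funext fun i => by fin_cases i <;> rfl

theorem hm_add (u v : V) : hm (u + v) = hm u + hm v := by
  ext i j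
  fin_cases i <;> fin_cases j
  exacts [rfl, rfl, rfl, map_add frob _ _, rfl, rfl, map_add frob _ _, map_add frob _ _, rfl]

/-- the action on the forms -/
def al (A : M3) : V →+ V := AddMonoidHom.mk' (fun v => vec (A * hm v * ct A)) fun u v => by
  rw [hm_add, mul_add, add_mul, vec_add]

/-- the form of `g` -/
def fm (g : G3) : V := vec (g.1 * ct g.1)

theorem hm_fm (g : G3) : hm (fm g) = g.1 * ct g.1 := hm_vec (by rw [ct_mul, ct_ct])

theorem fm_mul (u g : G3) : fm (u * g) = al u.1 (fm g) := by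
  show vec (u.1 * g.1 * ct (u.1 * g.1)) = vec (u.1 * hm (fm g) * ct u.1)
  rw [hm_fm, ct_mul]
  simp only [mul_assoc]

theorem card_G3 : Nat.card G3 = 60480 := by
  have h := S0242.result (F := F4) (q := 4) rfl 3 (by norm_num)
  have h1 : (4 - 1) * Nat.card G3 = 181440 := h.trans (by decide)
  omega

theorem fin3 : Finite G3 := Nat.finite_of_card_ne_zero (by rw [card_G3]; norm_num)

/-- the unitary group -/
def UU : Subgroup G3 := @ofFin _ _ fin3
  { carrier := {g | fm g = fm 1}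
    one_mem' := rfl
    mul_mem' := fun {a b} (ha : fm a = fm 1) (hb : fm b = fm 1) => by
      show fm (a * b) = fm 1
      rw [fm_mul, hb, ← fm_mul, mul_one, ha] }

theorem fm_eq {g g' : G3} (h : g⁻¹ * g' ∈ UU) : fm g = fm g' := by
  rw [← mul_inv_cancel_left g g', fm_mul, show fm (g⁻¹ * g') = fm 1 from h, ← fm_mul, mul_one]

theorem img_le (K : Subgroup G3) : (fm '' K).ncard * Nat.card ↥(K ⊓ UU) ≤ Nat.card K := by
  have := fin3
  have h1 : (fm '' K).ncard ≤ UU.relIndex K := by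
    let f : K ⧸ UU.subgroupOf K → V := Quotient.lift (fun a : K => fm a) fun a b k =>
      fm_eq (mem_subgroupOf.1 ((QuotientGroup.leftRel_apply (s := UU.subgroupOf K) (x := a) (y := b)).1 k))
    refine le_trans (Set.ncard_le_ncard (t := f '' Set.univ) ?_) ((Set.ncard_image_le).trans (Set.ncard_univ _).le)
    rintro _ ⟨a, ha, rfl⟩
    exact ⟨QuotientGroup.mk ⟨a, ha⟩, trivial, rfl⟩
  rw [← (UU.subgroupOf K).index_mul_card, ← Subgroup.inf_subgroupOf_left,
    Nat.card_congr (Subgroup.subgroupOfEquivOfLe (inf_le_left : K ⊓ UU ≤ K)).toEquiv, Subgroup.inf_subgroupOf_left]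
  exact Nat.mul_le_mul_right _ h1

/-- the search -/
theorem low {W : Set G3} {l : List (ℕ × G3)} (h1 : ∀ p ∈ l, RA p.1 (al p.2.1)) (h2 : ∀ p ∈ l, ∀ g ∈ W, p.2 * g ∈ W)
    {st : List ℕ} (h3 : ∀ v ∈ st, dec v ∈ fm '' W) (n : ℕ) : bfs (l.map Prod.fst) n st 0 0 ≤ (fm '' W).ncard :=
  bfs_le (O := fm '' W) (fun P hP v ⟨g, hg, k⟩ => by
    obtain ⟨p, hp, rfl⟩ := List.mem_map.1 hP
    exact ⟨p.2 * g, h2 p hp g hg, by rw [fm_mul, k, (h1 p hp).app]⟩) n st 0 0 ⟨h3, ∅, rfl, fun _ h => absurd h (by simp)⟩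

/-- a diagonal element -/
def gd : G3 := ⟨!![o,z,z; z,w,z; z,z,v], by decide +kernel⟩
/-- a 3-cycle -/
def gc : G3 := ⟨!![z,o,z; z,z,o; o,z,z], by decide +kernel⟩
/-- a scalar -/
def gz : G3 := ⟨!![w,z,z; z,w,z; z,z,w], by decide +kernel⟩
/-- a transvection -/
def gt : G3 := ⟨!![o,o,z; z,o,z; z,z,o], by decide +kernel⟩
/-- first generator of `SU₃(2)` -/
def ga : G3 := ⟨!![o,o,o; o,w,v; o,v,w], by decide +kernel⟩
/-- second generator of `SU₃(2)` -/
def gb : G3 := ⟨!![o,o,w; o,w,o; v,w,w], by decide +kernel⟩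

/-- generators of the Sylow 3-subgroup -/
def lP : List (ℕ × G3) := [(0x80040c00400300100008004002001020010, gc), (0x400c003002000400c0020010008004002001, gd)]
/-- generators of `SL₃(4)` -/
def lG : List (ℕ × G3) := (0xa0050020010008104002001008a045002001, gt) :: lP
/-- generators of `SU₃(2)` -/
def lU : List (ℕ × G3) := [(0x451154e052d4891394deab9576aed5aaa555, ga), (0x254a053d44d1c911946ead9596a7d5faaa55, gb)]

theorem lG_ok : ∀ p ∈ lG, RA p.1 (al p.2.1) := by unfold RA; exact ball (by decide +kernel)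

theorem lU_ok : ∀ p ∈ lU, RA p.1 (al p.2.1) := by unfold RA; exact ball (by decide +kernel)

theorem lU_mem : ∀ p ∈ lU, fm p.2 = fm 1 := ball (by decide +kernel)

theorem card_UU : Nat.card UU ≤ 216 := by
  have h1 := img_le ⊤
  have h2 := low (W := ((⊤ : Subgroup G3) : Set G3)) lG_ok (fun _ _ _ _ => trivial) (st := [21])
    (fun v hv => ⟨1, trivial, by rw [List.mem_singleton.1 hv]; decide +kernel⟩) 300
  rw [top_inf_eq, card_top, card_G3] at h1
  have h3 := (Nat.mul_le_mul_right _ ((show 280 ≤ _ by decide +kernel).trans h2)).trans h1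
  omega

/-- the number of a vector -/
def enc (u : V) : ℕ := (u 0).toNat + 4 * ((u 1).toNat + 4 * ((u 2).toNat + 4 * ((u 3).toNat + 4 * ((u 4).toNat + 4 * (u 5).toNat))))

theorem nine : ∀ a b c : F4, frob a = a → frob b = b → frob c = c → ∀ x y t : F4, (hm ![a, b, c, x, y, t]).det = 1 →
    ![a, b, c, x, y, t] = fm 1 ∨ (dec (enc ![a, b, c, x, y, t]) = ![a, b, c, x, y, t] ∧
      9 ≤ frc (enc ![a, b, c, x, y, t]) fun n => bfs (lP.map Prod.fst) 10 [n] 0 0) := by decide +kernel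

/-- the Sylow 3-subgroup -/
def l27 : List G3 := [1, gd, gd * gd].flatMap fun a => [1, gc, gc * gc].flatMap fun b => [1, gz, gz * gz].map fun c => a * b * c

theorem l27_nodup : l27.Nodup := by
  have h : frcL (l27.map fun g => enc (vec g.1) + 4096 * enc (vec g.1ᵀ)) (fun l => decide l.Nodup) = true := by decide +kernel
  rw [frcL_eq] at h
  exact (of_decide_eq_true h).of_map _

theorem le27 {K : Subgroup G3} (hd : gd ∈ K) (hc : gc ∈ K) (hz : gz ∈ K) : 27 ≤ Nat.card K := by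
  classical
  have := fin3
  have h : ∀ {a x : G3}, a ∈ K → x ∈ [1, a, a * a] → x ∈ K := fun {a x} ha hx => by
    simp only [List.mem_cons, List.not_mem_nil, or_false] at hx
    rcases hx with rfl | rfl | rfl
    exacts [K.one_mem, ha, K.mul_mem ha ha]
  have h1 : (l27.toFinset : Set G3) ⊆ K := fun g hg => by
    simp only [l27, List.coe_toFinset, Set.mem_ofPred_eq, List.mem_flatMap, List.mem_map] at hg
    obtain ⟨a, ha, b, hb, c, hc', rfl⟩ := hg
    exact K.mul_mem (K.mul_mem (h hd ha) (h hc hb)) (h hz hc')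
  have h2 := Set.ncard_le_ncard h1
  rwa [Set.ncard_coe_finset, List.toFinset_card_of_nodup l27_nodup] at h2

/-- **The stabiliser is the unitary group.** -/
theorem eq_UU {A : Subgroup G3} (hA : Nat.card A = 216) (hd : gd ∈ A) (hc : gc ∈ A) (hz : gz ∈ A) : A = UU := by
  have := fin3
  refine eq_of_le_of_card_ge (fun g hg => ?_) (hA ▸ card_UU)
  have h1 : fm g = ![fm g 0, fm g 1, fm g 2, fm g 3, fm g 4, fm g 5] := funext fun i => by fin_cases i <;> rfl
  have h2 : ∀ i, frob ((g.1 * ct g.1) i i) = (g.1 * ct g.1) i i := fun i =>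
    congrFun (congrFun (show ct (g.1 * ct g.1) = g.1 * ct g.1 by rw [ct_mul, ct_ct]) i) i
  rcases nine _ _ _ (h2 0) (h2 1) (h2 2) (fm g 3) (fm g 4) (fm g 5) (by
    refine (congrArg (fun u => (hm u).det) h1.symm).trans ?_
    show (hm (fm g)).det = 1
    rw [hm_fm, det_mul, ct, det_transpose, ← RingHom.mapMatrix_apply, ← RingHom.map_det, g.2, map_one, mul_one]) with h | ⟨h3, h4⟩
  · exact h1.trans h
  · rw [frc_eq] at h4
    have h5 := h4.trans (low (W := A) (fun p hp => lG_ok p (List.mem_cons_of_mem _ hp)) (fun p hp g hg => by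
      simp only [lP, List.mem_cons, List.not_mem_nil, or_false] at hp
      rcases hp with rfl | rfl
      exacts [A.mul_mem hc hg, A.mul_mem hd hg]) (fun v hv => ⟨g, hg, by rw [List.mem_singleton.1 hv]; exact h1.trans h3.symm⟩) 10)
    have h6 := (Nat.mul_le_mul h5 (le27 (K := A ⊓ UU) ⟨hd, show fm gd = fm 1 by decide +kernel⟩
      ⟨hc, show fm gc = fm 1 by decide +kernel⟩ ⟨hz, show fm gz = fm 1 by decide +kernel⟩)).trans (img_le A)
    omega

/-- the representatives of the suborbits of lengths `1, 18, 18, 18, 72, 72, 72` -/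
def rp : Fin 7 → G3 := ![1, ⟨!![z,z,o; z,o,z; o,o,o], by decide +kernel⟩, ⟨!![z,z,o; z,o,z; o,o,w], by decide +kernel⟩,
  ⟨!![z,z,o; z,o,z; o,o,v], by decide +kernel⟩, ⟨!![z,z,o; z,o,z; o,z,o], by decide +kernel⟩,
  ⟨!![z,z,o; z,o,o; o,o,z], by decide +kernel⟩, ⟨!![z,z,o; z,o,o; o,o,o], by decide +kernel⟩]

/-- their forms -/
def nc : Fin 7 → ℕ := ![21, 1301, 1813, 1557, 261, 1089, 337]

theorem nc_ok : ∀ i, fm (rp i) = dec (nc i) := by decide +kernel

/-- the size of a union of suborbits -/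
noncomputable def sz (l : List (Fin 7)) : ℕ := bfs (lU.map Prod.fst) 300 (l.map nc) 0 0

variable {Ω : Type} [Fintype Ω] [DecidableEq Ω] {ψ : G3 →* Perm Ω} {a : Ω}

theorem sz_le (hU : ∀ g, ψ g a = a ↔ g ∈ UU) {Z : Set Ω} (hZ : ∀ g, ψ g a = a → ∀ x ∈ Z, ψ g x ∈ Z) {l : List (Fin 7)}
    (h : ∀ i ∈ l, ψ (rp i) a ∈ Z) : sz l ≤ Z.ncard := by
  refine (low (W := {g | ψ g a ∈ Z}) lU_ok (fun p hp g hg => ?_) (fun v hv => ?_) 300).trans ?_
  · show ψ (p.2 * g) a ∈ Z
    rw [map_mul, Perm.mul_apply]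
    exact hZ _ ((hU _).2 (lU_mem p hp)) _ hg
  · obtain ⟨i, hi, rfl⟩ := List.mem_map.1 hv
    exact ⟨rp i, h i hi, nc_ok i⟩
  · classical
    refine le_trans (Set.ncard_le_ncard (t := (fun x => if k : ∃ g, ψ g a = x then fm k.choose else 0) '' Z) ?_)
      (Set.ncard_image_le)
    rintro _ ⟨g, hg, rfl⟩
    have k : ∃ g', ψ g' a = ψ g a := ⟨g, rfl⟩
    refine ⟨_, hg, (dif_pos k).trans (fm_eq ((hU _).1 ?_))⟩
    rw [map_mul, map_inv, Perm.mul_apply, Perm.inv_eq_iff_eq, k.choose_spec]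

/-- unions of suborbits -/
def Zs (ψ : G3 →* Perm Ω) (a : Ω) (l : List (Fin 7)) : Set Ω := {x | ∃ g, ψ g a = a ∧ ∃ i ∈ l, x = ψ g (ψ (rp i) a)}

theorem three (ψ : G3 →* Perm Ω) (hz : ψ gz = 1) (ht : ∀ x y, ∃ g, ψ g x = y) (hΩ : Fintype.card Ω = 280) :
    ∃ a, {D : Set Ω | a ∉ D ∧ (∀ g, ψ g a = a → ∀ x ∈ D, ψ g x ∈ D) ∧ D.ncard = 243}.ncard ≤ 3 := by
  have : Fact (Nat.Prime 3) := ⟨Nat.prime_three⟩
  have := fin3
  have hp : ∀ g : G3, g ^ 3 = 1 → IsPGroup 3 (zpowers (ψ g)) := fun g hg ⟨_, k, rfl⟩ => ⟨1, Subtype.ext (by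
    show (ψ g ^ k) ^ 3 ^ 1 = 1
    rw [pow_one, ← _root_.zpow_natCast, ← _root_.zpow_mul, mul_comm, _root_.zpow_mul, _root_.zpow_natCast, ← map_pow, hg,
      map_one, _root_.one_zpow])⟩
  obtain ⟨a, ha⟩ := exists_fix_hom (MonoidHom.id _) (IsPGroup.to_sup_of_normal_right' (hp gc (Subtype.ext (by decide +kernel)))
    (hp gd (Subtype.ext (by decide +kernel))) (zpowers_le.2 (mem_norm_zp (by
      rw [← map_mul, show gc * gd = gz * (gd * gc) from Subtype.ext (by decide +kernel), map_mul, hz, one_mul, map_mul,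
        mul_inv_cancel_right]
      exact mem_zpowers _)))) (by rw [hΩ]; norm_num)
  have hA : (stabilizer (Perm Ω) a).comap ψ = UU := by
    refine eq_UU ?_ (ha _ (mem_sup_right (mem_zpowers _))) (ha _ (mem_sup_left (mem_zpowers _))) (by
      show ψ gz a = a
      rw [hz, Perm.one_apply])
    let := MulAction.compHom Ω ψ
    have : IsPretransitive G3 Ω := ⟨ht⟩
    have h1 := ((stabilizer (Perm Ω) a).comap ψ).card_mul_index
    rw [show ((stabilizer (Perm Ω) a).comap ψ).index = Nat.card Ω from index_stabilizer_of_transitive G3 a,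
      Nat.card_eq_fintype_card (α := Ω), hΩ, card_G3] at h1
    omega
  have hU : ∀ g, ψ g a = a ↔ g ∈ UU := fun g => by rw [← hA]; rfl
  refine ⟨a, (Set.ncard_le_ncard (t := {(Zs ψ a [0, 1, 2])ᶜ, (Zs ψ a [0, 1, 3])ᶜ, (Zs ψ a [0, 2, 3])ᶜ}) ?_).trans
    ((Set.ncard_insert_le _ _).trans (Nat.succ_le_succ ((Set.ncard_insert_le _ _).trans (by simp))))⟩
  rintro D ⟨h1, h2, h3⟩
  have h4 : Dᶜ.ncard = 37 := by
    have := Set.ncard_add_ncard_compl D
    rw [Nat.card_eq_fintype_card] at this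
    omega
  have h5 : ∀ g, ψ g a = a → ∀ x ∈ Dᶜ, ψ g x ∈ Dᶜ := fun g hg x hx k => hx (by
    have := h2 g⁻¹ (by rw [map_inv, Perm.inv_eq_iff_eq, hg]) _ k
    rwa [← Perm.mul_apply, ← map_mul, inv_mul_cancel, map_one] at this)
  have h6 : ∀ i, 38 ≤ sz [i] → ψ (rp i) a ∈ D := fun i hi => by_contra fun k => by
    have := sz_le hU h5 (l := [i]) fun j hj => List.mem_singleton.1 hj ▸ k
    omega
  have h7 : ∀ i j, 244 ≤ sz [i, j, 4, 5, 6] → ψ (rp i) a ∈ D → ψ (rp j) a ∉ D := fun i j hi k k' => by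
    have := sz_le hU h2 (l := [i, j, 4, 5, 6]) fun m hm => by
      simp only [List.mem_cons, List.not_mem_nil, or_false] at hm
      rcases hm with rfl | rfl | rfl | rfl | rfl
      exacts [k, k', h6 _ (by decide +kernel), h6 _ (by decide +kernel), h6 _ (by decide +kernel)]
    omega
  have h8 : ∀ i j, 37 ≤ sz [0, i, j] → ψ (rp i) a ∉ D → ψ (rp j) a ∉ D → D = (Zs ψ a [0, i, j])ᶜ := fun i j hi k k' => by
    rw [eq_comm, compl_eq_comm, eq_comm]
    refine Set.eq_of_subset_of_ncard_le ?_ (h4.trans_le (hi.trans (sz_le hU ?_ fun m hm => ⟨1, by simp, m, hm, by simp⟩)))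
    · rintro _ ⟨g, hg, m, hm, rfl⟩
      simp only [List.mem_cons, List.not_mem_nil, or_false] at hm
      refine h5 g hg _ ?_
      rcases hm with rfl | rfl | rfl
      exacts [by rw [show rp 0 = 1 from rfl, map_one]; exact h1, k, k']
    · rintro g hg _ ⟨g', hg', m, hm, rfl⟩
      exact ⟨g * g', by rw [map_mul, Perm.mul_apply, hg', hg], m, hm, by rw [map_mul, Perm.mul_apply]⟩
  by_cases k1 : ψ (rp 1) a ∈ D
  · exact .inr (.inr (h8 2 3 (by decide +kernel) (h7 1 2 (by decide +kernel) k1) (h7 1 3 (by decide +kernel) k1)))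
  by_cases k2 : ψ (rp 2) a ∈ D
  · exact .inr (.inl (h8 1 3 (by decide +kernel) k1 (h7 2 3 (by decide +kernel) k2)))
  · exact .inl (h8 1 2 (by decide +kernel) k1 k2)

end Cfsg.Agent.SM.Uc.L34
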