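import Cfsg.Agent.SM.Uc.R280
import Cfsg.Agent.SM.Uc.R28
import Cfsg.Agent.SM.Uj.Main
import Cfsg.Agent.H934.OutB

/-!
# SM (S3570): the bound for the unitary socles from the list of rows (helper64)
-/

set_option autoImplicit false
set_option linter.unusedSectionVars false

namespace Cfsg.Agent.SM.Uc

open Cfsg Equiv Subgroup MulAction Cfsg.Agent.SM.U Cfsg.Agent.SporadicA.FieldFour Cfsg.Agent.SporadicStructure.FieldNine
open Cfsg.Agent.LieClassical.FieldTransfer (psuCongr)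

/-- the rows `(|T|, n, k)`: `L₃(4) < U₄(3)` on 280 points, `U₅(2) < U₆(2)` on 1408 and 20736 points -/
def RU : Tab := fun t n k =>
  (t = 20160 ∧ n = 280 ∧ k = 3) ∨ (t = 13685760 ∧ n = 1408 ∧ k = 3) ∨ (t = 13685760 ∧ n = 20736 ∧ k = 2)

variable {Ω : Type} [Fintype Ω] [DecidableEq Ω] {X H T M S : Subgroup (Perm Ω)}

theorem rows₀ (h : BoxRows) (u : Up X H T M S) {F : Type} [Field F] [Fintype F] {n q : ℕ} (hF : Fintype.card F = q ^ 2)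
    (hn : 3 ≤ n) (h32 : ¬ (n = 3 ∧ q = 2)) (e : S ≃* PSU n F q) :
    (n = 4 ∧ q = 3 ∧ Nat.card T = 20160 ∧ Fintype.card Ω = 280) ∨ (n = 6 ∧ q = 2 ∧
      (∃ w, hermForm n F q w w ≠ 0 ∧ im e T = Pt q w) ∧ (Fintype.card Ω = 1408 ∨ Fintype.card Ω = 20736)) := by
  obtain ⟨a⟩ : Nonempty Ω := Fintype.card_pos_iff.1 (lt_of_lt_of_le two_pos u.two)
  have h1 := h F n q hF hn h32 _ _ (fc_of (u.fac a) e)
  rw [Row, index_im_stab u, card_im e u.le] at h1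
  rcases h1 with ⟨rfl, rfl, -, h2⟩ | h1 | h1 | ⟨rfl, h2, h3, w, h4, h5⟩
  · exact (R28.dead u (e.trans (psuCongr 3 3 (FiniteField.ringEquivOfCardEq (hF.trans K9.card_K9'.symm)))) h2).elim
  · exact .inl h1
  · exact .inr h1
  · exact (h3 (H934.OutB.card_out_congr (imEquiv e u.le) ▸ row4 hF hn h2 u e a h4 h5)).elim

theorem rows (h : BoxRows) (u : Up X H T M S) (hS : fU S) :
    (Nat.card T = 20160 ∧ Fintype.card Ω = 280 ∧ ∃ (F : Type) (_ : Field F) (_ : Fintype F), Fintype.card F = 3 ^ 2 ∧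
      Nonempty (S ≃* PSU 4 F 3)) ∨ (Nat.card T = 13685760 ∧ (Fintype.card Ω = 1408 ∨ Fintype.card Ω = 20736) ∧
      ∃ e : S ≃* PSU 6 F4 2, ∃ w, hermForm 6 F4 2 w w ≠ 0 ∧ im e T = Pt 2 w) := by
  obtain ⟨F, _, _, n, q, hF, hn, h32, ⟨e⟩⟩ := hS
  rcases rows₀ h u hF hn h32 e with ⟨rfl, rfl, h1, h2⟩ | ⟨rfl, rfl, -, h2⟩
  · exact .inl ⟨h1, h2, F, _, _, hF, ⟨e⟩⟩
  · have h4 : Fintype.card F4 = 2 ^ 2 := rfl
    let e' := e.trans (psuCongr 6 2 (FiniteField.ringEquivOfCardEq (hF.trans h4.symm)))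
    obtain ⟨-, -, ⟨w, h5, h6⟩, -⟩ := (rows₀ h u h4 hn h32 e').resolve_left fun k => absurd k.1 (by norm_num)
    obtain ⟨ψ, h7, h8⟩ := exists_psi h4 u.le e' h5 h6
    exact .inr ⟨card_of_psi h4 h7 h8, h2, e', w, h5, h6⟩

/-- **The bound for the unitary socles.** -/
theorem bnd_U (h : BoxRows) : Bnd fU RU := fun Ω _ _ X H T ⟨M₀, S₀, u₀, k₀⟩ => by
  rcases rows h u₀ k₀ with ⟨h1, h2, -⟩ | ⟨h1, h2 | h2, -⟩
  · exact ⟨3, .inl ⟨h1, h2, rfl⟩, row280 X H T h1 h2 fun M ⟨S, u, k⟩ =>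
      ⟨S, u, ((rows h u k).resolve_right fun k' => by omega).2.2⟩⟩
  · exact ⟨3, .inr (.inl ⟨h1, h2, rfl⟩), Mo.row14 X H T h2 fun M ⟨S, u, k⟩ =>
      ⟨S, u, ((rows h u k).resolve_left fun k' => by omega).2.2⟩⟩
  · refine ⟨2, .inr (.inr ⟨h1, h2, rfl⟩), Uj.row' X H T h1 h2 fun M ⟨S, u, k⟩ => ?_⟩
    obtain ⟨-, -, e, -⟩ := (rows h u k).resolve_left fun k' => by omega
    exact ⟨S, u, F4, _, _, rfl, ⟨e⟩⟩

end Cfsg.Agent.SM.Uc
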