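import Cfsg.Agent.SM.Uj.Loc

/-!
# SM (S3570): the subgroups of order `3 * 9720` of `GU₅(2) < SU₆(2)` over a Sylow 3-subgroup (helper64)

`eq_Mon` : such a subgroup is the monomial group.
-/

set_option autoImplicit false
set_option linter.unusedSectionVars false

namespace Cfsg.Agent.SM.Uc.Mo

open Cfsg Matrix Cfsg.Agent.SporadicA.FieldFour F4 Cfsg.Agent.H852.USixElts Cfsg.Agent.H365.RIM Cfsg.Agent.H365.RIM.Five
  Cfsg.Agent.H410.QA Subgroup Cfsg.Agent.SM.Uj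

/-- a submonoid of a finite group -/
def ofFin {G : Type*} [Group G] [Finite G] (N : Submonoid G) : Subgroup G :=
  { N with inv_mem' := fun {a} ha => Submonoid.powers_le.2 ha (mem_powers_iff_mem_zpowers.2 (inv_mem (mem_zpowers a))) }

theorem ball {α : Type*} {l : List α} {p : α → Prop} [DecidablePred p] (h : (l.all fun u => decide (p u)) = true) :
    ∀ u ∈ l, p u := fun u hu => of_decide_eq_true (List.all_eq_true.1 h u hu)

/-- vectors -/
abbrev V : Type := Fin 6 → F4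

/-- the basis -/
def bv (i : Fin 6) : V := Pi.single i 1

/-- the elements which keep a list of vectors -/
def Keep (l : List V) : Subgroup SU6 := @ofFin _ _ finite_SU
  { carrier := {a | ∀ u ∈ l, mat a *ᵥ u ∈ l}
    one_mem' := fun u hu => by rwa [mat_one, one_mulVec]
    mul_mem' := fun {a b} ha hb u hu => by
      rw [mat_mul, ← mulVec_mulVec]
      exact ha _ (hb u hu) }

theorem mem_Keep {l : List V} {a : SU6} : a ∈ Keep l ↔ ∀ u ∈ l, mat a *ᵥ u ∈ l := Iff.rfl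

/-- upper bounds -/
theorem orb_ge (K : Subgroup SU6) (v : V) (l : List V) (h : ∀ a ∈ K, mat a *ᵥ v ∈ l) :
    Nat.card K ≤ l.length * Nat.card ↥(K ⊓ stb v) := by
  have := finite_SU
  have h1 : (stb v).relIndex K ≤ l.length := by
    let f : K ⧸ (stb v).subgroupOf K → l.toFinset := Quotient.lift
      (fun a : K => ⟨mat a *ᵥ v, List.mem_toFinset.2 (h a a.2)⟩) fun a b k => Subtype.ext (by
        have k1 : mat ((a : SU6)⁻¹ * b) *ᵥ v = v := QuotientGroup.leftRel_apply.1 k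
        show mat a *ᵥ v = mat b *ᵥ v
        conv_lhs => rw [← k1, mulVec_mulVec, ← mat_mul, mul_inv_cancel_left])
    have hf : Function.Injective f := by
      rintro ⟨a⟩ ⟨b⟩ k
      have k1 : mat a *ᵥ v = mat b *ᵥ v := congrArg Subtype.val k
      refine Quotient.sound (QuotientGroup.leftRel_apply.2 ?_)
      show mat ((a : SU6)⁻¹ * b) *ᵥ v = v
      rw [mat_mul, ← mulVec_mulVec, ← k1, mulVec_mulVec, ← mat_mul, inv_mul_cancel, mat_one, one_mulVec]
    exact (Nat.card_le_card_of_injective f hf).trans (by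
      rw [Nat.card_eq_fintype_card, Fintype.card_coe]; exact l.toFinset_card_le)
  rw [← ((stb v).subgroupOf K).index_mul_card, ← Subgroup.inf_subgroupOf_left,
    Nat.card_congr (Subgroup.subgroupOfEquivOfLe (inf_le_left : K ⊓ stb v ≤ K)).toEquiv, Subgroup.inf_subgroupOf_left]
  exact Nat.mul_le_mul_right _ h1

theorem herm_mat (a : SU6) (u v : V) : hermForm 6 F4 2 (mat a *ᵥ u) (mat a *ᵥ v) = hermForm 6 F4 2 u v := a.2 u v

theorem herm_bv (u : V) (j : Fin 6) : hermForm 6 F4 2 u (bv j) = u j := by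
  simp [hermForm, bv, Pi.single_apply]

theorem herm_sm (u : V) (c : F4) (j : Fin 6) : hermForm 6 F4 2 u (c • bv j) = u j * c ^ 2 := by
  simp [hermForm, bv, Pi.single_apply]

theorem norm_col (a : SU6) (i : Fin 6) : hermForm 6 F4 2 (mat a *ᵥ bv i) (mat a *ᵥ bv i) = 1 := by
  rw [herm_mat, herm_bv, bv, Pi.single_eq_same]

/-- orthogonality -/
theorem perp {a : SU6} {i j k : Fin 6} {c : F4} (h : mat a *ᵥ bv j = c • bv k) (hij : i ≠ j) : (mat a *ᵥ bv i) k = 0 := by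
  have h1 := herm_mat a (bv i) (bv j)
  have h2 := norm_col a j
  rw [h, herm_sm, herm_bv, bv.eq_def i, Pi.single_eq_of_ne' hij] at h1
  rw [h, herm_sm] at h2
  exact (mul_eq_zero.1 h1).resolve_right fun k => by rw [k, mul_zero] at h2; exact zero_ne_one h2

theorem perp' {a : SU6} {i j : Fin 6} (h : a ∈ stb (bv j)) (hij : i ≠ j) : (mat a *ᵥ bv i) j = 0 :=
  perp (c := 1) (by rw [one_smul]; exact h) hij

theorem eq_one {a : SU6} (k : Fin 6) (h : ∀ i, i ≠ k → a ∈ stb (bv i)) : a = 1 := by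
  have h1 : ∀ i j, mat a i j = (mat a *ᵥ bv j) i := fun i j => by rw [bv, mulVec_single_one]; rfl
  have h2 : mat a = diagonal (Function.update 1 k (mat a k k)) := by
    ext i j
    by_cases hj : j = k
    · subst hj
      by_cases hi : i = j
      · rw [hi, diagonal_apply_eq, Function.update_self]
      · rw [diagonal_apply_ne _ hi, h1, perp' (h i hi) (Ne.symm hi)]
    · rw [h1, show mat a *ᵥ bv j = bv j from h j hj, diagonal_apply, bv, Pi.single_apply]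
      split_ifs with hi
      · rw [hi, Function.update_of_ne hj, Pi.one_apply]
      · rfl
  have h3 := det_mat a
  rw [h2, det_diagonal, Finset.prod_update_of_mem (Finset.mem_univ k)] at h3
  simp only [Pi.one_apply, Finset.prod_const_one, mul_one] at h3
  apply mat_inj
  rw [h2, h3, mat_one, ← diagonal_one]
  exact congrArg diagonal (Function.update_eq_self k 1)

theorem card_one {K : Subgroup SU6} (k : Fin 6) (h : ∀ a ∈ K, ∀ i, i ≠ k → a ∈ stb (bv i)) : Nat.card K = 1 := by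
  rw [(eq_bot_iff_forall K).2 fun a ha => eq_one k (h a ha), card_bot]

/-! ### frames -/

/-- the frame vectors -/
def frs : List V := [1, 2, 3, 4, 8, 12, 16, 32, 48, 64, 128, 192, 256, 512, 768, 1024, 2048, 3072].map dec

/-- the last point -/
def l5 : List V := [1024, 2048, 3072].map dec

/-- the monomial group of `GU₅(2)` -/
def Mon : Subgroup SU6 := Keep frs ⊓ Keep l5

theorem bv_frs : ∀ i, bv i ∈ frs := by decide +kernel

theorem frs_smul : ∀ u ∈ frs, ∀ c : F4, c ≠ 0 → c • u ∈ frs := ball (by decide +kernel)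

theorem frs_eq : ∀ u ∈ frs, ∃ i, ∃ c : F4, c ≠ 0 ∧ u = c • bv i := ball (by decide +kernel)

theorem l5_of : ∀ c : F4, hermForm 6 F4 2 (c • bv 5) (c • bv 5) = 1 → ∀ d : F4, d ≠ 0 → d • c • bv 5 ∈ l5 := by decide +kernel

theorem l5_eq : ∀ u ∈ l5, ∃ c : F4, c ≠ 0 ∧ u = c • bv 5 := ball (by decide +kernel)

theorem keep5 {a : SU6} {c : F4} (h : mat a *ᵥ bv 5 = c • bv 5) : a ∈ Keep l5 := fun u hu => by
  obtain ⟨d, hd, rfl⟩ := l5_eq u hu
  rw [mulVec_smul, h]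
  exact l5_of c (h ▸ norm_col a 5) d hd

theorem keepF {a : SU6} (h : ∀ i, mat a *ᵥ bv i ∈ frs) : a ∈ Keep frs := fun u hu => by
  obtain ⟨i, d, hd, rfl⟩ := frs_eq u hu
  rw [mulVec_smul]
  exact frs_smul _ (h i) d hd

theorem card_Mon : Nat.card Mon ≤ 29160 := by
  have h1 := orb_ge Mon (bv 5) l5 fun a ha => ha.2 _ (by decide +kernel)
  have h2 := orb_ge (Mon ⊓ stb (bv 5)) (bv 4) (frs.filter fun u => u 5 = 0) fun a ha =>
    List.mem_filter.2 ⟨ha.1.1 _ (bv_frs _), decide_eq_true (perp' ha.2 (by decide))⟩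
  have h3 := orb_ge (Mon ⊓ stb (bv 5) ⊓ stb (bv 4)) (bv 3) (frs.filter fun u => u 5 = 0 ∧ u 4 = 0) fun a ha =>
    List.mem_filter.2 ⟨ha.1.1.1 _ (bv_frs _), decide_eq_true ⟨perp' ha.1.2 (by decide), perp' ha.2 (by decide)⟩⟩
  have h4 := orb_ge (Mon ⊓ stb (bv 5) ⊓ stb (bv 4) ⊓ stb (bv 3)) (bv 2) (frs.filter fun u => u 5 = 0 ∧ u 4 = 0 ∧ u 3 = 0)
    fun a ha => List.mem_filter.2 ⟨ha.1.1.1.1 _ (bv_frs _),
      decide_eq_true ⟨perp' ha.1.1.2 (by decide), perp' ha.1.2 (by decide), perp' ha.2 (by decide)⟩⟩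
  have h5 := orb_ge (Mon ⊓ stb (bv 5) ⊓ stb (bv 4) ⊓ stb (bv 3) ⊓ stb (bv 2)) (bv 1)
    (frs.filter fun u => u 5 = 0 ∧ u 4 = 0 ∧ u 3 = 0 ∧ u 2 = 0) fun a ha => List.mem_filter.2 ⟨ha.1.1.1.1.1 _ (bv_frs _),
      decide_eq_true ⟨perp' ha.1.1.1.2 (by decide), perp' ha.1.1.2 (by decide), perp' ha.1.2 (by decide),
        perp' ha.2 (by decide)⟩⟩
  rw [card_one (K := _ ⊓ stb (bv 1)) 0 fun a ha i hi => by
    fin_cases i
    exacts [absurd rfl hi, ha.2, ha.1.2, ha.1.1.2, ha.1.1.1.2, ha.1.1.1.1.2]] at h5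
  rw [show l5.length = 3 from rfl] at h1
  rw [show List.length _ = 15 by decide +kernel] at h2
  rw [show List.length _ = 12 by decide +kernel] at h3
  rw [show List.length _ = 9 by decide +kernel] at h4
  rw [show List.length _ = 6 by decide +kernel] at h5
  omega

/-! ### the stabiliser of the pair `{3, 4}` -/

/-- two points -/
def l34 : List V := [64, 128, 192, 256, 512, 768].map dec

/-- the unit vectors of the first three coordinates -/
def l36 : List V := [1, 2, 3, 4, 8, 12, 16, 21, 22, 23, 25, 26, 27, 29, 30, 31, 32, 37, 38, 39, 41, 42, 43, 45, 46, 47, 48, 53,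
  54, 55, 57, 58, 59, 61, 62, 63].map dec

theorem mem36 : ∀ a b c : F4, hermForm 6 F4 2 ![a, b, c, 0, 0, 0] ![a, b, c, 0, 0, 0] = 1 → ![a, b, c, 0, 0, 0] ∈ l36 := by
  decide +kernel

theorem mem36' {u : V} (h : hermForm 6 F4 2 u u = 1) (h3 : u 3 = 0) (h4 : u 4 = 0) (h5 : u 5 = 0) : u ∈ l36 := by
  have h1 : u = ![u 0, u 1, u 2, 0, 0, 0] := funext fun i => by
    fin_cases i
    exacts [rfl, rfl, rfl, h3, h4, h5]
  rw [h1] at h ⊢
  exact mem36 _ _ _ h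

theorem card_pair {K : Subgroup SU6} (k5 : K ≤ Keep l5) (k3 : ∀ a ∈ K, mat a *ᵥ bv 3 ∈ l34) (k4 : ∀ a ∈ K, mat a *ᵥ bv 4 ∈ l34) :
    Nat.card K ≤ 23328 := by
  have h1 := orb_ge K (bv 5) l5 fun a ha => k5 ha _ (by decide +kernel)
  have h2 := orb_ge (K ⊓ stb (bv 5)) (bv 4) l34 fun a ha => k4 a ha.1
  have h3 := orb_ge (K ⊓ stb (bv 5) ⊓ stb (bv 4)) (bv 3) l34 fun a ha => k3 a ha.1.1
  have h4 := orb_ge (K ⊓ stb (bv 5) ⊓ stb (bv 4) ⊓ stb (bv 3)) (bv 0) l36 fun a ha =>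
    mem36' (norm_col a 0) (perp' ha.2 (by decide)) (perp' ha.1.2 (by decide)) (perp' ha.1.1.2 (by decide))
  have h5 := orb_ge (K ⊓ stb (bv 5) ⊓ stb (bv 4) ⊓ stb (bv 3) ⊓ stb (bv 0)) (bv 1) (l36.filter fun u => u 0 = 0) fun a ha =>
    List.mem_filter.2 ⟨mem36' (norm_col a 1) (perp' ha.1.2 (by decide)) (perp' ha.1.1.2 (by decide))
      (perp' ha.1.1.1.2 (by decide)), decide_eq_true (perp' ha.2 (by decide))⟩
  rw [card_one (K := _ ⊓ stb (bv 1)) 2 fun a ha i hi => by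
    fin_cases i
    exacts [ha.1.2, ha.2, absurd rfl hi, ha.1.1.2, ha.1.1.1.2, ha.1.1.1.1.2]] at h5
  rw [show l5.length = 3 from rfl] at h1
  rw [show l34.length = 6 from rfl] at h2 h3
  rw [show l36.length = 36 from rfl] at h4
  rw [show List.length _ = 6 by decide +kernel] at h5
  omega

/-! ### reflections -/

/-- rank one matrices -/
def NM (y : V) : M6 := vecMulVec y fun i => frob (y i)

/-- the reflection in `y`, corrected on the last coordinate -/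
def RM (y : V) : M6 := 1 + v • NM y + w • NM (bv 5)

theorem mat_inv (a : SU6) : mat a⁻¹ = st (mat a) := by
  rw [← one_mul (mat a⁻¹), ← st_mat a, mul_assoc, ← mat_mul, mul_inv_cancel, mat_one, mul_one]

theorem conj_NM (a : SU6) (y : V) : mat a * NM y * mat a⁻¹ = NM (mat a *ᵥ y) := by
  rw [mat_inv, NM, mul_vecMulVec, vecMulVec_mul, st, vecMul_transpose, NM]
  congr 1
  exact funext fun i => (RingHom.map_mulVec frob (mat a) y i).symm

theorem NM5 : ∀ u ∈ l5, NM u = NM (bv 5) := ball (by decide +kernel)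

theorem bv_l5 : bv 5 ∈ l5 := by decide +kernel

theorem conj_RM {a : SU6} (ha : a ∈ Keep l5) (y : V) : mat a * RM y * mat a⁻¹ = RM (mat a *ᵥ y) := by
  rw [RM, mul_add, mul_add, add_mul, add_mul, mul_one, ← mat_mul, mul_inv_cancel, mat_one, mul_smul_comm, smul_mul_assoc,
    mul_smul_comm, smul_mul_assoc, conj_NM, conj_NM, NM5 _ (ha _ bv_l5), RM]

/-- the 3-cycle -/
def c3 : SU6 := sp ⟨![1, 2, 0, 3, 4, 5], ![2, 0, 1, 3, 4, 5], by decide, by decide⟩

/-- the generators -/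
def base : List ℕ := [0x400c00200100080040020010008004003002, 0x400c0020010008004002001000c008002001,
  0x400c00200100080040030020008004002001, 0x400c002001000c0080020010008004002001, 0x400c00300200080040020010008004002001,
  0x800400200100080040008004002001020010]

/-- the reflection with support `0, 1, 2` -/
def cR : ℕ := 0x400c0020010008004003502f01d03b01703e

/-- support, reflection, word -/
def tab : List (ℕ × ℕ × List ℕ) := [(21, 0x400c0020010008004003502f01d03b01703e, [6]),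
  (69, 0x400c002001000c508f02001004d0cb0470ce, [0, 6, 6, 5, 1, 6, 1, 1, 5, 5, 6, 6, 6, 6, 0, 0]),
  (81, 0x400c002001000d10b30710e30080040530f2, [2, 6, 6, 5, 0, 6, 0, 0, 5, 5, 6, 6, 6, 6, 2, 2]),
  (84, 0x400c002001000d40bc0740ec05c0f8002001, [1, 6, 6, 5, 2, 6, 2, 2, 5, 5, 6, 6, 6, 6, 1, 1]),
  (261, 0x400c0030520f08004002001010d30b10730e, [0, 6, 6, 5, 1, 6, 1, 1, 5, 5, 6, 6, 6, 6, 0, 0]),
  (273, 0x400c00311233080040131323008004113332, [2, 6, 6, 5, 0, 6, 0, 0, 5, 5, 6, 6, 6, 6, 2, 2]),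
  (276, 0x400c0031423c08004013432c11c338002001, [1, 6, 6, 5, 2, 6, 2, 2, 5, 5, 6, 6, 6, 6, 1, 1]),
  (321, 0x400c003412c31c13830200100080041433c2,
    [6, 3, 0, 6, 5, 6, 6, 5, 3, 6, 3, 3, 5, 5, 6, 6, 6, 6, 5, 5, 6, 6, 0, 0, 3, 3, 6, 6]),
  (324, 0x400c003442cc1c438c02001014c3c8002001,
    [6, 3, 1, 6, 5, 6, 6, 5, 3, 6, 3, 3, 5, 5, 6, 6, 6, 6, 5, 5, 6, 6, 1, 1, 3, 3, 6, 6]),
  (336, 0x400c003502f01d03b01703e0008004002001,
    [6, 3, 2, 6, 5, 6, 6, 5, 3, 6, 3, 3, 5, 5, 6, 6, 6, 6, 5, 5, 6, 6, 2, 2, 3, 3, 6, 6]),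
  (341, 0x400c003552ff1d53bf1753ef15d3fb1573fe, [6, 2, 1, 0, 6, 0, 0, 1, 1, 2, 2, 6, 6])]

theorem tab_rep : ∀ p ∈ tab, Uj.Rep p.2.1 (RM (dec p.1)) := by unfold Uj.Rep; decide +kernel

theorem tab_ok : ∀ p ∈ tab, Nat.beq (ev (base ++ [p.2.1]) p.2.2) cR = true ∧ p.1 < 4096 ∧
    Nat.ble 16 (bfs base 16 [p.1] (2 ^ p.1) 1) = true := by decide +kernel

/-- the support -/
def sgn (x : F4) : F4 := if x = 0 then 0 else 1

/-- the logarithm of the inverse -/
def lg (x : F4) : ZMod 3 := if x = w then 2 else if x = v then 1 else 0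

theorem uu_lg : ∀ x, uu (lg x) * x = sgn x := by decide

theorem supp : ∀ a b c d e : F4, hermForm 6 F4 2 ![a, b, c, d, e, 0] ![a, b, c, d, e, 0] = 1 →
    ![a, b, c, d, e, 0] ∈ frs ∨ ∃ p ∈ tab, ![sgn a, sgn b, sgn c, sgn d, sgn e, 0] = dec p.1 := by decide +kernel

/-- the exponents of `RM (bv i)` -/
def dr (i : Fin 6) : Fin 6 → ZMod 3 := Pi.single i 1 + Pi.single 5 2

theorem dr_sum : ∀ i, ∑ j, dr i j = 0 := by decide +kernel

theorem dm_dr : ∀ i : Fin 6, i ≠ 5 → dm (dr i) = RM (bv i) := by decide +kernel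

variable {K : Subgroup SU6}

theorem in_base (hD : ∀ d h, sd d h ∈ K) (hc : c3 ∈ K) : ∀ P ∈ base, In K P := by
  simp only [base, List.mem_cons, List.not_mem_nil, or_false, forall_eq_or_imp, forall_eq]
  refine ⟨⟨_, hD _ (dr_sum 0), ?_⟩, ⟨_, hD _ (dr_sum 1), ?_⟩, ⟨_, hD _ (dr_sum 2), ?_⟩, ⟨_, hD _ (dr_sum 3), ?_⟩,
    ⟨_, hD _ (dr_sum 4), ?_⟩, ⟨_, hc, ?_⟩⟩ <;>
  · unfold Uj.Rep
    decide +kernel

theorem in_stb {P n : ℕ} (h : In K P) (e : app P n = n) : In (K ⊓ stb (dec n)) P := by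
  obtain ⟨a, ha, k⟩ := h
  exact ⟨a, ⟨ha, by show mat a *ᵥ _ = _; rw [← k.app, e]⟩, k⟩

theorem big_stb (hb : ∀ P ∈ base, In K P) (hR : In K cR) {i : Fin 6} (hi : i = 3 ∨ i = 4) :
    1944 ≤ Nat.card ↥(K ⊓ stb (bv i)) := by
  have h : ∀ P ∈ base ++ [cR], In K P := fun P hP => (List.mem_append.1 hP).elim (hb P) fun k => List.mem_singleton.1 k ▸ hR
  rcases hi with rfl | rfl
  · rw [show bv 3 = dec 64 by decide +kernel]
    exact chain_le [(1, 36, [[1], [2], [3], [0, 5, 1, 2, 5]]), (4, 6, [[1], [2]]), (16, 3, [[1]]), (256, 3, [])]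
      (K ⊓ stb (dec 64)) ((base ++ [cR]).filter fun P => app P 64 = 64) (fun P hP =>
        in_stb (h P (List.mem_filter.1 hP).1) (of_decide_eq_true (List.mem_filter.1 hP).2)) (by decide +kernel)
  · rw [show bv 4 = dec 256 by decide +kernel]
    exact chain_le [(1, 36, [[1], [2], [3], [0, 5, 1, 2, 5]]), (4, 6, [[1], [2]]), (16, 3, [[1]]), (64, 3, [])]
      (K ⊓ stb (dec 256)) ((base ++ [cR]).filter fun P => app P 256 = 256) (fun P hP =>
        in_stb (h P (List.mem_filter.1 hP).1) (of_decide_eq_true (List.mem_filter.1 hP).2)) (by decide +kernel)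

/-- the orbits of the fourth and fifth basis vector lie in the frame -/
theorem col_frs (hK : Nat.card K = 29160) (k5 : K ≤ Keep l5) (hD : ∀ d h, sd d h ∈ K) (hc : c3 ∈ K) {i : Fin 6}
    (hi : i = 3 ∨ i = 4) {a : SU6} (ha : a ∈ K) : mat a *ᵥ bv i ∈ frs := by
  have hi5 : i ≠ 5 := by rcases hi with rfl | rfl <;> decide
  have hb := in_base hD hc
  obtain ⟨c, -, h5⟩ := l5_eq _ (k5 ha (bv 5) bv_l5)
  have h0 := perp h5 hi5
  have hn := norm_col a i
  generalize hy : mat a *ᵥ bv i = y at h0 hn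
  have h1 : y = ![y 0, y 1, y 2, y 3, y 4, 0] := funext fun j => by
    fin_cases j
    exacts [rfl, rfl, rfl, rfl, rfl, h0]
  rw [h1] at hn
  refine (supp _ _ _ _ _ hn).elim (fun k => h1 ▸ k) fun ⟨p, hp, k⟩ => absurd hK (ne_of_gt ?_)
  obtain ⟨e1, e2, e3⟩ := tab_ok p hp
  let d : Fin 6 → ZMod 3 := ![lg (y 0), lg (y 1), lg (y 2), lg (y 3), lg (y 4), -(lg (y 0) + lg (y 1) + lg (y 2) + lg (y 3) + lg (y 4))]
  have hd : ∑ j, d j = 0 := by
    rw [Fin.sum_univ_six]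
    exact add_neg_cancel _
  have h2 : mat (sd d hd * a) *ᵥ bv i = dec p.1 := by
    rw [mat_mul, ← mulVec_mulVec, hy, ← k]
    funext j
    rw [show mat (sd d hd) = diagonal fun i => uu (d i) from rfl, mulVec_diagonal]
    fin_cases j
    exacts [uu_lg _, uu_lg _, uu_lg _, uu_lg _, uu_lg _, (congrArg _ h0).trans (mul_zero _)]
  have h3 : sd d hd * a ∈ K := K.mul_mem (hD d hd) ha
  generalize sd d hd * a = b at h2 h3
  have h4 : In K p.2.1 := ⟨b * sd _ (dr_sum i) * b⁻¹, K.mul_mem (K.mul_mem h3 (hD _ _)) (K.inv_mem h3), by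
    rw [mat_mul, mat_mul, show mat (sd _ (dr_sum i)) = RM (bv i) from dm_dr i hi5, conj_RM (k5 h3), h2]
    exact tab_rep p hp⟩
  have h6 : In K cR := Nat.eq_of_beq_eq_true e1 ▸ ev_in (fun P hP => (List.mem_append.1 hP).elim (hb P)
    fun k => List.mem_singleton.1 k ▸ h4) _
  have h7 : dec p.1 ∈ {u | ∃ a ∈ K, mat a *ᵥ bv i = u} := ⟨b, h3, h2⟩
  have h8 := (Nat.le_of_ble_eq_true e3).trans (bfs_le (O := {u | ∃ a ∈ K, mat a *ᵥ bv i = u}) (fun g hg v ⟨a, ha, k⟩ => by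
    obtain ⟨b, hb, k1⟩ := hb g hg
    exact ⟨b * a, K.mul_mem hb ha, by rw [k1.app, ← k, mat_mul, mulVec_mulVec]⟩) _ _ _ _
      ⟨fun v hv => by rwa [List.mem_singleton.1 hv], {p.1}, rfl, fun v hv => by
        rw [Finset.mem_singleton.1 hv]
        exact ⟨e2, h7, by simp⟩⟩)
  exact lt_of_lt_of_le (by norm_num) ((Nat.mul_le_mul h8 (big_stb hb h6 hi)).trans (orb_le K _))

theorem frs_cases : ∀ u ∈ frs, u 5 = 0 → u ∈ l34 ∨ ∃ c : F4, c ≠ 0 ∧ ∃ k : Fin 3, bv 0 = c • mat (c3 ^ k.1) *ᵥ u :=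
  ball (by decide +kernel)

theorem bv_c3 : bv 2 = mat c3 *ᵥ bv 0 ∧ bv 1 = mat c3 *ᵥ bv 2 := by decide +kernel

/-- **The monomial group.** -/
theorem eq_Mon (hK : Nat.card K = 29160) (k5 : K ≤ Keep l5) (hD : ∀ d h, sd d h ∈ K) (hc : c3 ∈ K) : K = Mon := by
  have := finite_SU
  have h1 : ∃ i, (i = 3 ∨ i = 4) ∧ ∃ a ∈ K, mat a *ᵥ bv i ∉ l34 := by
    by_contra h
    have h2 : ∀ i, (i = 3 ∨ i = 4) → ∀ a ∈ K, mat a *ᵥ bv i ∈ l34 := fun i hi a ha => by_contra fun k => h ⟨i, hi, a, ha, k⟩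
    have := card_pair k5 (h2 3 (.inl rfl)) (h2 4 (.inr rfl))
    omega
  obtain ⟨i, hi, a, ha, h1⟩ := h1
  obtain ⟨c, -, h5⟩ := l5_eq _ (k5 ha (bv 5) bv_l5)
  obtain ⟨d, hd, k, h2⟩ := (frs_cases _ (col_frs hK k5 hD hc hi ha)
    (perp h5 (by rcases hi with rfl | rfl <;> decide))).resolve_left h1
  have h0 : ∀ b ∈ K, mat b *ᵥ bv 0 ∈ frs := fun b hb => by
    rw [h2, mulVec_smul, mulVec_mulVec, mulVec_mulVec, ← mat_mul, ← mat_mul]
    exact frs_smul _ (col_frs hK k5 hD hc hi (K.mul_mem (K.mul_mem hb (K.pow_mem hc _)) ha)) d hd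
  have h3 : ∀ b ∈ K, mat b *ᵥ bv 2 ∈ frs := fun b hb => by
    rw [bv_c3.1, mulVec_mulVec, ← mat_mul]
    exact h0 _ (K.mul_mem hb hc)
  have h4 : ∀ b ∈ K, mat b *ᵥ bv 1 ∈ frs := fun b hb => by
    rw [bv_c3.2, mulVec_mulVec, ← mat_mul]
    exact h3 _ (K.mul_mem hb hc)
  refine eq_of_le_of_card_ge (fun b hb => ⟨keepF fun j => ?_, k5 hb⟩) (hK ▸ card_Mon)
  fin_cases j
  exacts [h0 b hb, h4 b hb, h3 b hb, col_frs hK k5 hD hc (.inl rfl) hb, col_frs hK k5 hD hc (.inr rfl) hb,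
    (ball (by decide +kernel) : ∀ u ∈ l5, u ∈ frs) _ (k5 hb _ bv_l5)]

end Cfsg.Agent.SM.Uc.Mo
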