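import Cfsg.Agent.SM.Uc.Diag
import Cfsg.Agent.H934.IdxPSU

/-!
# SM (S3570), unitary socles: recognition of the stabiliser of a singular point (helper64)
-/

set_option autoImplicit false
set_option linter.unusedSectionVars false

namespace Cfsg.Agent.SM.Uc

open Cfsg Equiv Subgroup MulAction Matrix Cfsg.Agent.SM.U
open Cfsg.Agent.LieClassical.HermBasic Cfsg.Agent.LieClassical.HermSiegel Cfsg.Agent.LieClassical.HermGen
open Cfsg.Agent.ClassicalGeometry.PSUAutBasic Cfsg.Agent.ClassicalGeometry.PSUAutSylow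

variable {F : Type} [Field F] [Fintype F] {n q : ℕ}

theorem card_siegG' (hF : Fintype.card F = q ^ 2) (hn : 3 ≤ n) {u : Fin n → F} (h0 : u ≠ 0)
    (hu : hermForm n F q u u = 0) : (q ^ 2) ^ (n - 2) * q ≤ Nat.card (siegG hF u hu) := by
  obtain ⟨e, f, H⟩ := exists_frame hF (show 2 ≤ n by omega)
  have he : e ≠ 0 := by
    rintro rfl
    exact zero_ne_one ((herm_zero_left f).symm.trans H.ef)
  obtain ⟨g, -, rfl⟩ := exists_map_iso hF hn le_rfl (mem_coordSub_top e) (mem_coordSub_top u) he h0 H.ee hu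
  refine (H934.IdxPSU.card_siegG hF H).trans (Nat.card_le_card_of_injective
    (fun s => (⟨g * s * g⁻¹, ?_⟩ : siegG hF (act g e) hu)) fun s t h => ?_)
  · obtain ⟨w, μ, h, e⟩ := s.2
    exact ⟨_, μ, h.map g, by rw [e, conj_siegel]⟩
  · exact Subtype.ext (mul_left_cancel (mul_right_cancel (congrArg Subtype.val h)))

theorem act_of_mem_siegG (hF : Fintype.card F = q ^ 2) {u : Fin n → F} {hu : hermForm n F q u u = 0} {s : SU n F q}
    (hs : s ∈ siegG hF u hu) : act s u = u := by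
  obtain ⟨w, μ, h, rfl⟩ := hs
  exact act_siegel_self hF h

/-- the Siegel group acts freely on the points which are not perpendicular to `u` -/
theorem siegG_free (hF : Fintype.card F = q ^ 2) {u : Fin n → F} (h0 : u ≠ 0) {hu : hermForm n F q u u = 0}
    {s : SU n F q} (hs : s ∈ siegG hF u hu) {v : Fin n → F} (hv : hermForm n F q v u ≠ 0) {c : F}
    (hc : act s v = c • v) : s = 1 := by
  have h1 : c = 1 := by
    have h2 := herm_act s v u
    rw [act_of_mem_siegG hF hs, hc, herm_smul_left] at h2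
    exact (mul_eq_right₀ hv).1 h2
  obtain ⟨w, μ, h, rfl⟩ := hs
  rw [h1, one_smul] at hc
  obtain ⟨d, rfl⟩ : ∃ d : F, w = d • u := by
    have h2 := hc
    rw [act_siegel, add_assoc, add_eq_left, add_eq_zero_iff_eq_neg, ← neg_smul] at h2
    refine ⟨(hermForm n F q v u)⁻¹ * -(μ * hermForm n F q v u - hermForm n F q v w), ?_⟩
    rw [mul_smul, ← h2, smul_smul, inv_mul_cancel₀ hv, one_smul]
  have h3 : ∀ x, act (siegel hF u (d • u) μ h) x = x + ((d + μ - d ^ q) * hermForm n F q x u) • u := fun x => by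
    rw [act_siegel, herm_smul_right, smul_smul, add_assoc, ← add_smul]
    congr 2
    ring
  rw [h3, add_eq_left, smul_eq_zero, mul_eq_zero] at hc
  refine ext_act fun x => ?_
  rw [h3, (hc.resolve_right h0).resolve_right hv, zero_mul, zero_smul, add_zero, act_one]

/-- the Siegel group on a line through `u` -/
theorem siegG_line (hF : Fintype.card F = q ^ 2) {u : Fin n → F} (h0 : u ≠ 0) (hu : hermForm n F q u u = 0)
    {z : Fin n → F} (hz : hermForm n F q z u = 0) (hzu : ∀ c : F, z ≠ c • u) (d : F) :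
    ∃ s ∈ siegG hF u hu, act s z = z + d • u := by
  obtain ⟨f, -, h1, h2⟩ := exists_partner hF h0 hu
  obtain ⟨v, hv, hvz⟩ : ∃ v, hermForm n F q v u = 0 ∧ hermForm n F q v z ≠ 0 := by
    by_contra h
    push Not at h
    exact hzu _ (exists_smul_of_perp_perp hF h1 h2 h)
  have hzv : hermForm n F q z v ≠ 0 := fun h => hvz (herm_eq_zero_swap hF h)
  obtain ⟨μ, hμ⟩ := exists_trace_eq hF (c := -hermForm n F q (((-d / hermForm n F q z v) ^ q) • v)
    (((-d / hermForm n F q z v) ^ q) • v)) (by rw [neg_pow_q hF, herm_self_pow hF])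
  have hs : IsSiegel q u (((-d / hermForm n F q z v) ^ q) • v) μ :=
    ⟨hu, by rw [herm_smul_left, hv, mul_zero], by rw [hμ, neg_add_cancel]⟩
  refine ⟨_, ⟨_, μ, hs, rfl⟩, ?_⟩
  rw [act_siegel, hz, zero_smul, add_zero, mul_zero, herm_smul_right, pow_q_pow_q hF, div_mul_cancel₀ _ hzv, zero_sub,
    neg_neg]

/-- the action on vectors -/
@[reducible] def vecAct (n : ℕ) (F : Type) [Field F] (q : ℕ) : MulAction (SU n F q) (Fin n → F) where
  smul := act
  one_smul := act_one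
  mul_smul := act_mul

/-- **A subgroup of index prime to `p` with small `p'`-part fixes a singular point.** -/
theorem exists_fix (hF : Fintype.card F = q ^ 2) (hn : 3 ≤ n) (p : ℕ) [Fact p.Prime] [CharP F p] (B : Subgroup (SU n F q))
    (hp : ¬ p ∣ B.index)
    (hm : ∀ m, m ∣ Nat.card B → ¬ p ∣ m → m < q ^ 2 * (q ^ 2 - 1) ∧ m < (q ^ 2) ^ (n - 2) * q) :
    ∃ (u : Fin n → F) (hu : hermForm n F q u u = 0), u ≠ 0 ∧ siegG hF u hu ≤ B ∧ ∀ g ∈ B, ∃ c : F, act g u = c • u := by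
  obtain ⟨P⟩ : Nonempty (Sylow p B) := inferInstance
  have h1 : IsPGroup p ((P : Subgroup B).map B.subtype) := P.isPGroup'.map _
  have h2 : ¬ p ∣ ((P : Subgroup B).map B.subtype).index := by
    rw [index_map_subtype, (Fact.out : p.Prime).dvd_mul]
    exact not_or.2 ⟨P.not_dvd_index, hp⟩
  obtain ⟨u, h0, hu, hfix⟩ := exists_fixed p hF (show 2 ≤ n by omega) h1
  have hQ : siegG hF u hu ≤ B := (siegG_le_sylow p hF (h1.toSylow h2) hu hfix).trans (map_subtype_le _)
  refine ⟨u, hu, h0, hQ, fun g hg => ?_⟩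
  let _ := vecAct n F q
  have h3 : (stabilizer B u).index ∣ (P : Subgroup B).index := index_dvd_of_le fun x hx => hfix x ⟨x, hx, rfl⟩
  obtain ⟨h4, h5⟩ := hm _ (stabilizer B u).index_dvd_card fun h => P.not_dvd_index (h.trans h3)
  rw [index_stabilizer, ← Nat.card_coe_set_eq] at h4 h5
  have mem : ∀ k ∈ B, act k u ∈ orbit B u := fun k hk => ⟨⟨k, hk⟩, rfl⟩
  by_contra hc
  push Not at hc
  by_cases hv : hermForm n F q (act g u) u = 0
  · refine h4.not_ge ?_
    have hz : hermForm n F q (act g⁻¹ u) u = 0 := herm_eq_zero_swap hF ((herm_act_left g u u).symm.trans hv)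
    have hzu : ∀ c : F, act g⁻¹ u ≠ c • u := fun c h => by
      have h6 : u = c • act g u := by rw [← act_smul, ← h, act_act_inv]
      have h7 : c ≠ 0 := fun k => h0 (by rw [h6, k, zero_smul])
      exact hc c⁻¹ (by rw [eq_inv_smul_iff₀ h7, ← h6])
    have key : ∀ x : F × Fˣ, x.1 • u + (x.2 : F) • act g u ∈ orbit B u := fun x => by
      obtain ⟨s, hs, e⟩ := siegG_line hF h0 hu hz hzu x.2
      have e1 : act (g * s * g⁻¹) u = u + (x.2 : F) • act g u := by
        rw [act_mul, act_mul, e, act_add, act_act_inv, act_smul]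
      obtain ⟨t, ht, e2⟩ := siegG_line hF h0 hu (z := u + (x.2 : F) • act g u)
        (by rw [herm_add_left, herm_smul_left, hu, hv, mul_zero, add_zero]) (fun c h => hc ((x.2 : F)⁻¹ * (c - 1)) (by
          rw [mul_smul, eq_inv_smul_iff₀ x.2.ne_zero, sub_smul, ← h, one_smul, add_sub_cancel_left])) (x.1 - 1)
      have h6 := mem _ (B.mul_mem (hQ ht) (B.mul_mem (B.mul_mem hg (hQ hs)) (B.inv_mem hg)))
      rw [act_mul, e1, e2, sub_smul, one_smul] at h6
      convert h6 using 1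
      abel
    have h6 : Nat.card (F × Fˣ) = q ^ 2 * (q ^ 2 - 1) := by
      rw [Nat.card_prod, Nat.card_units, Nat.card_eq_fintype_card, hF]
    rw [← h6]
    refine Nat.card_le_card_of_injective (fun x => (⟨_, key x⟩ : orbit B u)) fun x y h => ?_
    have h7 : x.1 • u + (x.2 : F) • act g u = y.1 • u + (y.2 : F) • act g u := congrArg Subtype.val h
    have h8 : (x.2 : F) = y.2 := by
      by_contra h8
      refine hc (((x.2 : F) - y.2)⁻¹ * (y.1 - x.1)) ?_
      rw [mul_smul, eq_inv_smul_iff₀ (sub_ne_zero.2 h8), sub_smul, sub_smul, sub_eq_sub_iff_add_eq_add, add_comm, h7]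
    rw [h8, add_left_inj] at h7
    exact Prod.ext (smul_left_injective F h0 h7) (Units.ext h8)
  · refine h5.not_ge ((card_siegG' hF hn h0 hu).trans ?_)
    refine Nat.card_le_card_of_injective (fun s => (⟨_, mem _ (B.mul_mem (hQ s.2) hg)⟩ : orbit B u)) fun s t h => ?_
    have h7 : act ((s : SU n F q) * g) u = act ((t : SU n F q) * g) u := congrArg Subtype.val h
    rw [act_mul, act_mul] at h7
    refine Subtype.ext (inv_mul_eq_one.1 (siegG_free hF h0 (t⁻¹ * s).2 hv (c := 1) ?_)).symm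
    rw [act_mul, h7, act_inv_act, one_smul]

/-- the stabiliser of a singular point has large index -/
theorem le_index_Sb (hF : Fintype.card F = q ^ 2) (hn : 3 ≤ n) {u : Fin n → F} (h0 : u ≠ 0)
    (hu : hermForm n F q u u = 0) : (q ^ 2) ^ (n - 2) * q ≤ (Sb q (F ∙ u)).index := by
  obtain ⟨f, hf, -, h2⟩ := exists_partner hF h0 hu
  have hf0 : f ≠ 0 := by
    rintro rfl
    exact zero_ne_one ((herm_zero_left u).symm.trans h2)
  obtain ⟨g, -, rfl⟩ := exists_map_iso hF hn le_rfl (mem_coordSub_top u) (mem_coordSub_top f) h0 hf0 hu hf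
  refine (card_siegG' hF hn h0 hu).trans (Nat.card_le_card_of_injective
    (fun s => (((s * g : SU n F q)) : SU n F q ⧸ Sb q (F ∙ u))) fun s t h => ?_)
  obtain ⟨c, hc⟩ := (mem_Sb_span h0).1 (QuotientGroup.eq.1 h)
  refine Subtype.ext (inv_mul_eq_one.1 (siegG_free hF h0 (s⁻¹ * t).2 (h2 ▸ one_ne_zero) (c := c) ?_))
  rw [← act_smul, ← hc, ← act_mul, ← act_mul]
  congr 1
  group

/-- **Recognition of the stabiliser of a singular point.** -/
theorem exists_eq_Sb (hF : Fintype.card F = q ^ 2) (hn : 3 ≤ n) (p : ℕ) [Fact p.Prime] [CharP F p]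
    (B : Subgroup (SU n F q)) (hp : ¬ p ∣ B.index)
    (hm : ∀ m, m ∣ Nat.card B → ¬ p ∣ m → m < q ^ 2 * (q ^ 2 - 1) ∧ m < (q ^ 2) ^ (n - 2) * q)
    (hi : B.index < 2 * ((q ^ 2) ^ (n - 2) * q)) :
    ∃ u : Fin n → F, hermForm n F q u u = 0 ∧ u ≠ 0 ∧ B = Sb q (F ∙ u) := by
  obtain ⟨u, hu, h0, -, h⟩ := exists_fix hF hn p B hp hm
  have h1 : B ≤ Sb q (F ∙ u) := fun g hg => (mem_Sb_span h0).2 (h g hg)
  refine ⟨u, hu, h0, le_antisymm h1 (relIndex_eq_one.1 ?_)⟩
  have h2 := relIndex_mul_index h1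
  have h3 := le_index_Sb hF hn h0 hu
  have h4 : B.relIndex (Sb q (F ∙ u)) ≠ 0 := index_ne_zero_of_finite
  by_contra h5
  have h6 : 2 * (Sb q (F ∙ u)).index ≤ B.relIndex (Sb q (F ∙ u)) * (Sb q (F ∙ u)).index :=
    Nat.mul_le_mul_right _ (by omega)
  omega

theorem charP_three (hF : Fintype.card F = 3 ^ 2) : CharP F 3 := by
  obtain ⟨p, k, hp, hc, e, hk⟩ := exists_prime_pow hF
  have : p = 3 := (Nat.prime_dvd_prime_iff_eq hp Nat.prime_three).1 (e ▸ dvd_pow_self p hk.ne')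
  exact this ▸ hc

theorem card_su33 (hF : Fintype.card F = 3 ^ 2) : Nat.card (SU 3 F 3) = 6048 := by
  have h := S0278.result hF 3 (by norm_num)
  have h1 : (3 : ℕ) ^ (3 * (3 - 1) / 2) * ∏ i ∈ Finset.range 3, (if Even i then 3 ^ (i + 1) + 1 else 3 ^ (i + 1) - 1) =
    24192 := by decide
  omega

theorem card_su43 (hF : Fintype.card F = 3 ^ 2) : Nat.card (SU 4 F 3) = 13063680 := by
  have h := S0278.result hF 4 (by norm_num)
  have h1 : (3 : ℕ) ^ (4 * (4 - 1) / 2) * ∏ i ∈ Finset.range 4, (if Even i then 3 ^ (i + 1) + 1 else 3 ^ (i + 1) - 1) =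
    52254720 := by decide
  omega

/-- index 28 in `SU_3(3)` -/
theorem eq_Sb28 (hF : Fintype.card F = 3 ^ 2) (B : Subgroup (SU 3 F 3)) (hB : B.index = 28) :
    ∃ u : Fin 3 → F, hermForm 3 F 3 u u = 0 ∧ u ≠ 0 ∧ B = Sb 3 (F ∙ u) := by
  have := charP_three hF
  have : Fact (Nat.Prime 3) := ⟨Nat.prime_three⟩
  have h1 := B.card_mul_index
  rw [hB, card_su33 hF] at h1
  refine exists_eq_Sb hF le_rfl 3 B (by rw [hB]; decide) (fun m h2 h3 => ?_) (by rw [hB]; decide)
  rw [show Nat.card B = 8 * 3 ^ 3 by omega] at h2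
  have := Nat.le_of_dvd (by norm_num) ((Nat.Coprime.pow_right 3
    ((Nat.Prime.coprime_iff_not_dvd Nat.prime_three).2 h3).symm).dvd_of_dvd_mul_right h2)
  omega

/-- index 280 in `SU_4(3)` -/
theorem eq_Sb280 (hF : Fintype.card F = 3 ^ 2) (B : Subgroup (SU 4 F 3)) (hB : B.index = 280) :
    ∃ u : Fin 4 → F, hermForm 4 F 3 u u = 0 ∧ u ≠ 0 ∧ B = Sb 3 (F ∙ u) := by
  have := charP_three hF
  have : Fact (Nat.Prime 3) := ⟨Nat.prime_three⟩
  have h1 := B.card_mul_index
  rw [hB, card_su43 hF] at h1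
  refine exists_eq_Sb hF (by norm_num) 3 B (by rw [hB]; decide) (fun m h2 h3 => ?_) (by rw [hB]; decide)
  rw [show Nat.card B = 64 * 3 ^ 6 by omega] at h2
  have := Nat.le_of_dvd (by norm_num) ((Nat.Coprime.pow_right 6
    ((Nat.Prime.coprime_iff_not_dvd Nat.prime_three).2 h3).symm).dvd_of_dvd_mul_right h2)
  omega

variable {Ω : Type} [Fintype Ω] [DecidableEq Ω]

/-- the points not perpendicular to `u` are one regular orbit of the Siegel group -/
theorem exists_far (hF : Fintype.card F = q ^ 2) (hn : 3 ≤ n) (φ : SU n F q →* Perm Ω) {a : Ω} {u : Fin n → F}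
    (h0 : u ≠ 0) (hu : hermForm n F q u u = 0) (h : ∀ g, φ g a = a ↔ ∃ c : F, act g u = c • u) :
    ∃ D : Set Ω, a ∉ D ∧ (∀ g, φ g a = a → ∀ x ∈ D, φ g x ∈ D) ∧ D.ncard = Nat.card (siegG hF u hu) := by
  have key : ∀ g k, φ g a = φ k a ↔ ∃ c : F, act g u = c • act k u := fun g k => by
    have h1 := h (k⁻¹ * g)
    rw [map_mul, map_inv, Perm.mul_apply, Perm.inv_eq_iff_eq] at h1
    refine h1.trans (exists_congr fun c => ?_)
    rw [act_mul, ← act_smul, act_eq_iff, inv_inv]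
  refine ⟨{x | ∃ g, φ g a = x ∧ hermForm n F q (act g u) u ≠ 0}, ?_, ?_, ?_⟩
  · rintro ⟨g, h1, h2⟩
    obtain ⟨c, hc⟩ := (h g).1 h1
    exact h2 (by rw [hc, herm_smul_left, hu, mul_zero])
  · rintro g hg _ ⟨k, rfl, hk⟩
    refine ⟨g * k, by rw [map_mul, Perm.mul_apply], fun h1 => hk ?_⟩
    obtain ⟨c, hc⟩ := (h g⁻¹).1 (by rw [map_inv, Perm.inv_eq_iff_eq, hg])
    have h2 : c ≠ 0 := fun k => h0 ((act_eq_zero g⁻¹).1 (by rw [hc, k, zero_smul]))
    rw [act_mul, herm_act_left, hc, herm_smul_right, mul_eq_zero] at h1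
    exact h1.resolve_left (pow_ne_zero _ h2)
  · obtain ⟨f, hf, -, h2⟩ := exists_partner hF h0 hu
    have hf0 : f ≠ 0 := by
      rintro rfl
      exact zero_ne_one ((herm_zero_left u).symm.trans h2)
    obtain ⟨g, -, rfl⟩ := exists_map_iso hF hn le_rfl (mem_coordSub_top u) (mem_coordSub_top f) h0 hf0 hu hf
    have h3 : ∀ s : siegG hF u hu, hermForm n F q (act ((s : SU n F q) * g) u) u = 1 := fun s => by
      rw [act_mul, ← h2, ← herm_act (s : SU n F q) (act g u) u, act_of_mem_siegG hF s.2]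
    rw [← Nat.card_coe_set_eq]
    refine (Nat.card_eq_of_bijective (fun s : siegG hF u hu =>
      (⟨φ ((s : SU n F q) * g) a, (s : SU n F q) * g, rfl, h3 s ▸ one_ne_zero⟩ : {x | ∃ g, φ g a = x ∧ hermForm n F q (act g u) u ≠ 0}))
      ⟨fun s t e => ?_, ?_⟩).symm
    · obtain ⟨c, hc⟩ := (key _ _).1 (congrArg Subtype.val e)
      refine Subtype.ext (inv_mul_eq_one.1 (siegG_free hF h0 (t⁻¹ * s).2 (h2 ▸ one_ne_zero) (c := c) ?_)).symm
      rw [act_mul, ← act_mul (s : SU n F q), hc, act_smul, act_mul, act_inv_act]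
    · rintro ⟨_, k, rfl, hk⟩
      obtain ⟨c, μ, hs, e⟩ := exists_siegel_map hF hu (v := act g u) (v' := (hermForm n F q (act k u) u)⁻¹ • act k u)
        (by rw [herm_smul_left, herm_smul_right, herm_act, herm_act, hu, mul_zero, mul_zero])
        (by rw [h2, herm_smul_left, inv_mul_cancel₀ hk]) (h2 ▸ one_ne_zero)
      exact ⟨⟨_, _, μ, hs, rfl⟩, Subtype.ext ((key _ _).2 ⟨_, by rw [act_mul, e]⟩)⟩

end Cfsg.Agent.SM.Uc
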