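import Cfsg.Agent.SM.Uc.Mon
import Cfsg.Agent.SM.Uc.Blk

/-!
# SM (S3570): the row `(U₅(2), 1408)` in `U₆(2)` has at most three overgroups (helper64)
-/

set_option autoImplicit false
set_option linter.unusedSectionVars false

namespace Cfsg.Agent.SM.Uc.Mo

open Cfsg Matrix Cfsg.Agent.SporadicA.FieldFour F4 Cfsg.Agent.H852.USixElts Cfsg.Agent.H365.RIM Cfsg.Agent.H365.RIM.Five
  Cfsg.Agent.H410.QA Subgroup Cfsg.Agent.SM.Uj Equiv MulAction

/-- a transposition -/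
def tr : SU6 := sp (swap 0 1)

/-- a diagonal element -/
def dd : SU6 := sd ![1, 2, 0, 0, 0, 0] (by decide)

/-- `U₄(3).2` -/
def BU : Subgroup G0 := closure {f, pr tr, pr dd, s}

theorem leU {K : Subgroup G0} (h1 : f ∈ K) (h2 : pr tr ∈ K) (h3 : pr dd ∈ K) (h4 : s ∈ K) : 6531840 ≤ Nat.card K := by
  have k := chain_le [(1024, 2016, [[0], [1], [2]]), (256, 15, [[0, 0, 0, 1, 0, 0], [0, 0, 0, 0, 1, 0], [1], [2]]),
    (64, 12, [[1], [2], [3]]), (16, 9, [[1], [2]]), (4, 6, [])] (K.comap pr)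
    [cF, 0x800400200100080040020010002001008004, 0x80040020010008004002001000400c003002, cS, cW] (by
      simp only [List.mem_cons, List.not_mem_nil, or_false, forall_eq_or_imp, forall_eq]
      exact ⟨⟨_, h1, rF⟩, ⟨tr, h2, by unfold Uj.Rep; decide +kernel⟩, ⟨dd, h3, by unfold Uj.Rep; decide +kernel⟩, ⟨_, h4, rS⟩,
        ⟨ww, by rw [mem_comap, pr_ww]; exact K.one_mem, rW⟩⟩) (by decide +kernel)
  rw [card_comap] at k
  exact Nat.le_of_mul_le_mul_left (c := 3) (le_of_eq_of_le (by norm_num) k) (by norm_num)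

theorem in_Mon : p5 ∈ Mon ∧ y5 ∈ Mon ∧ tr ∈ Mon ∧ zz ∉ Mon ∧ zz ∈ Keep l5 := by
  refine ⟨⟨ball ?_, ball ?_⟩, ⟨ball ?_, ball ?_⟩, ⟨ball ?_, ball ?_⟩, fun h => absurd (h.1 _ (bv_frs 0)) ?_, ball ?_⟩ <;>
    decide +kernel

theorem sd_l5 (d : Fin 6 → ZMod 3) (h : ∑ i, d i = 0) : sd d h ∈ Keep l5 := keep5 (c := uu (d 5)) (by
  rw [show mat (sd d h) = diagonal fun i => uu (d i) from rfl, bv, diagonal_mulVec_single, mul_one, ← Pi.single_smul,
    smul_eq_mul, mul_one])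

theorem c3_l5 : c3 ∈ Keep l5 := ball (by decide +kernel)

theorem ord_gg : orderOf (g ^ 2) = 2 := orderOf_eq_prime (by rw [← pow_mul, g4]) (by
  rw [g, ← map_pow]
  exact pr_ne_one 1 4 (by decide) (by rw [mat_pow]; decide +kernel))

/-- **the three stabilisers** -/
theorem U_class {B T : Subgroup G0} (hT : ∀ a, pr a ∈ T ↔ a ∈ Keep l5) (hB : B.index = 1408)
    (hA : Nat.card ↥(B ⊓ T) = 9720) (hD : ∀ d h, pr (sd d h) ∈ B) (hc : pr c3 ∈ B) :
    ∃ j : Fin 3, B = BU.comap (dl ^ j.1).toMonoidHom := by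
  have := finite_PSU
  have hK : (B ⊓ T).comap pr = Mon := eq_Mon (by rw [card_comap, hA]) (fun a ha => (hT a).1 ha.2)
    (fun d h => ⟨hD d h, (hT _).2 (sd_l5 d h)⟩) ⟨hc, (hT _).2 c3_l5⟩
  have hM : ∀ a ∈ Mon, pr a ∈ B := fun a ha => (hK.ge ha).1
  have hf : f ∈ B := hM _ in_Mon.1
  have hg : g ∈ B := hM _ in_Mon.2.1
  have hz : c ∉ B := fun k => in_Mon.2.2.2.1 (hK.le ⟨k, (hT _).2 in_Mon.2.2.2.2⟩)
  have hcard : Nat.card B = 6531840 := by
    have h1 := B.card_mul_index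
    rw [hB, card_PSU] at h1
    omega
  have h1 : ∃ j : ℕ, c ^ j * s ∈ B := by
    by_contra h
    obtain ⟨r, h2, h3⟩ := nk (by norm_num) ord_f hf (by rw [hcard]; norm_num)
    have h4 : ∀ y : ↥(normalizer (zpowers f : Set G0) ⊓ B), ∃ p : Fin 4 × Fin 5, (y : G0) = g ^ p.1.1 * f ^ p.2.1 := fun y => by
      obtain ⟨l, j, k, i, hl, hk, e⟩ := norm_f ((mem_normalizer_iff.1 y.2.1 f).1 (mem_zpowers f))
      have h5 : c ^ j * s ^ k ∈ B := by
        have h6 : (y : G0) ∈ B := y.2.2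
        rwa [e, B.mul_mem_cancel_right (B.pow_mem hf _), B.mul_mem_cancel_left (B.pow_mem hg _)] at h6
      obtain rfl : k = 0 := by
        by_contra k0
        exact h ⟨j, by rwa [show k = 1 by omega, pow_one] at h5⟩
      rw [pow_zero, mul_one, pow_eq_pow_mod _ Uj.c3] at h5 e
      have h7 : j % 3 = 0 := by
        by_contra k0
        rcases (by omega : j % 3 = 1 ∨ j % 3 = 2) with k1 | k1 <;> rw [k1] at h5
        · exact hz (by rwa [pow_one] at h5)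
        · have h8 := B.pow_mem h5 2
          rw [← pow_mul, show 2 * 2 = 3 + 1 from rfl, pow_succ, Uj.c3, one_mul] at h8
          exact hz h8
      refine ⟨(⟨l, hl⟩, ⟨i % 5, Nat.mod_lt _ (by norm_num)⟩), ?_⟩
      rw [e, h7, pow_zero, mul_one, pow_eq_pow_mod i f5]
    choose p hp using h4
    have h5 := Nat.card_le_card_of_injective p fun y y' k => Subtype.ext (by rw [hp, hp, k])
    rw [Nat.card_prod, Nat.card_fin, Nat.card_fin] at h5
    have h6 := orderOf_dvd_natCard _ (show f ∈ normalizer (zpowers f : Set G0) ⊓ B from ⟨le_normalizer (mem_zpowers f), hf⟩)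
    have h7 := orderOf_dvd_natCard _ (show g ^ 2 ∈ normalizer (zpowers f : Set G0) ⊓ B from
      ⟨Subgroup.pow_mem _ (mem_norm_zp (by rw [gf]; exact pow_mem (mem_zpowers f) 2)) 2, B.pow_mem hg 2⟩)
    rw [ord_f] at h6
    rw [ord_gg] at h7
    rw [hcard] at h3
    generalize Nat.card ↥(normalizer (zpowers f : Set G0) ⊓ B) = N at *
    rcases (by omega : N = 0 ∨ N = 10 ∨ N = 20) with rfl | rfl | rfl <;> omega
  obtain ⟨j, hj⟩ := h1
  rw [pow_eq_pow_mod _ Uj.c3] at hj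
  have h2 : dl (pr tr) = pr tr := dl_eq (by decide +kernel)
  have h3 : dl (pr dd) = pr dd := dl_eq (by decide +kernel)
  have h4 : s ∈ mp (j % 3) B := by
    have h5 := (mem_mp (m := j % 3)).2 hj
    rwa [map_mul, map_pow, dl_fix dl_c, dl_pow_s, ← mul_assoc, ← pow_add, show j % 3 + 2 * (j % 3) = 3 * (j % 3) by ring,
      pow_mul, Uj.c3, one_pow, one_mul] at h5
  have h5 : BU = mp (j % 3) B := eq_of_le_of_card_ge ((closure_le _).2 (by
    rintro _ (rfl | rfl | rfl | rfl)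
    exacts [(mem_mp' dl_f).2 hf, (mem_mp' h2).2 (hM _ in_Mon.2.2.1), (mem_mp' h3).2 (hD _ _), h4])) (by
      rw [card_mp, hcard]
      exact leU (subset_closure (by simp)) (subset_closure (by simp)) (subset_closure (by simp)) (subset_closure (by simp)))
  refine ⟨⟨j % 3, Nat.mod_lt _ (by norm_num)⟩, ext fun a => ?_⟩
  rw [h5, mem_comap]
  exact mem_mp.symm

/-! ### the Sylow 3-subgroup -/

theorem dm_zero : dm 0 = 1 := by decide +kernel

/-- the diagonal group -/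
def Dg : Subgroup SU6 := @ofFin _ _ finite_SU
  { carrier := {a | ∃ d, mat a = dm d}
    one_mem' := ⟨0, dm_zero.symm⟩
    mul_mem' := fun ⟨d, h⟩ ⟨d', h'⟩ => ⟨d + d', by rw [mat_mul, h, h', dm_add]⟩ }

theorem three_P : IsPGroup 3 ↥(zpowers c3 ⊔ Dg) := by
  have := finite_SU
  refine IsPGroup.to_sup_of_normal_right' (fun a => ⟨1, Subtype.ext ?_⟩) (fun ⟨a, d, h⟩ => ⟨1, Subtype.ext (mat_inj ?_)⟩)
    (zpowers_le.2 (mem_normalizer_fintype fun a ⟨d, h⟩ => ?_))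
  · obtain ⟨_, k, rfl⟩ := a
    have h : c3 ^ 3 = 1 := mat_inj (by rw [mat_pow]; decide +kernel)
    show (c3 ^ k) ^ 3 ^ 1 = 1
    rw [pow_one, ← _root_.zpow_natCast, ← _root_.zpow_mul, mul_comm, _root_.zpow_mul, _root_.zpow_natCast, h, _root_.one_zpow]
  · show mat (a ^ 3 ^ 1) = 1
    rw [pow_one, mat_pow, h, pow_succ, sq, ← dm_add, ← dm_add, ← dm_zero]
    exact congrArg dm (funext fun i => (by decide : ∀ x : ZMod 3, x + x + x = 0) _)
  · refine ⟨fun i => d (![1, 2, 0, 3, 4, 5] i), ?_⟩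
    rw [mat_mul, mat_mul, h, show mat c3 * dm d = _ * mat c3 from pm_diag _ _, mul_assoc, ← mat_mul, mul_inv_cancel, mat_one,
      mul_one]
    rfl

variable {Ω : Type} [Fintype Ω] [DecidableEq Ω]

/-- a `p`-group has a fixed point -/
theorem exists_fix_hom {G : Type*} [Group G] (φ : G →* Perm Ω) {P : Subgroup G} {p : ℕ} [Fact p.Prime] (hP : IsPGroup p P)
    (h : ¬ p ∣ Fintype.card Ω) : ∃ a, ∀ g ∈ P, φ g a = a := by
  obtain ⟨a, ha⟩ := (hP.map φ).nonempty_fixed_point_of_prime_not_dvd_card Ω (by rwa [Nat.card_eq_fintype_card])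
  exact ⟨a, fun g hg => ha ⟨φ g, mem_map_of_mem φ hg⟩⟩

theorem mem_T (a : SU6) : pr a ∈ U.Pt 2 (lst F4) ↔ a ∈ Keep l5 :=
  (pr_mem_Pt hF4 (by norm_num) lst_ne).trans ⟨fun ⟨_, h⟩ => keep5 h, fun h =>
    (l5_eq _ (h (bv 5) bv_l5)).imp fun _ k => k.2⟩

/-- **The row `(U₅(2), 1408)`.** -/
theorem row14 (X H T : Subgroup (Perm Ω)) (hΩ : Fintype.card Ω = 1408) {O : Set (Subgroup (Perm Ω))}
    (h : ∀ M ∈ O, ∃ S, Up X H T M S ∧ ∃ e : S ≃* PSU 6 F4 2, ∃ w, hermForm 6 F4 2 w w ≠ 0 ∧ U.im e T = U.Pt 2 w) :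
    O.ncard ≤ 3 := by
  rcases O.eq_empty_or_nonempty with rfl | ⟨M₀, h₀⟩
  · simp
  obtain ⟨S₀, u₀, e₀, w₀, k1, k2⟩ := h M₀ h₀
  obtain ⟨ψ, hψ, hr⟩ := exists_psi hF4 u₀.le e₀ k1 k2
  obtain ⟨φ₀, k3⟩ := exists_ext hF4 u₀.le e₀ k1 k2 ψ hψ hr
  have : Fact (Nat.Prime 3) := ⟨Nat.prime_three⟩
  obtain ⟨a, ha⟩ := exists_fix_hom ((rep φ₀).comp pr) three_P (by rw [hΩ]; norm_num)
  refine (ncard_le_of_stabs (X := X) (H := H) (φ₀.toMonoidHom.comp (inclusion u₀.le)) a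
    (𝓑 := (fun j : Fin 3 => BU.comap (dl ^ j.1).toMonoidHom) '' Set.univ) (Set.toFinite _) fun M hM => ?_).trans
    ((Set.ncard_image_le).trans (by simp))
  obtain ⟨S, u, e, w, h1, h2⟩ := h M hM
  obtain ⟨φ, h3⟩ := exists_ext hF4 u.le e h1 h2 ψ hψ hr
  have h4 : ∀ a ∈ Keep l5, rep φ (pr a) = rep φ₀ (pr a) := fun a ha => by
    obtain ⟨b, hb⟩ : pr a ∈ (emb hF4).range := by rw [range_emb]; exact (mem_T a).2 ha
    rw [← hb, h3, k3]
  have h5 : U.im φ T = U.Pt 2 (lst F4) := by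
    rw [← range_emb hF4, ← hr]
    ext y
    rw [mem_im_rep]
    exact ⟨fun ⟨b, hb⟩ => ⟨b, rep_injective φ ((h3 b).trans hb)⟩, fun ⟨b, hb⟩ => ⟨b, hb ▸ (h3 b).symm⟩⟩
  obtain ⟨j, hj⟩ := U_class (B := U.im φ (M ⊓ stabilizer (Perm Ω) a)) mem_T ((index_im_stab u φ a).trans hΩ) (by
      have h6 : U.im φ (M ⊓ stabilizer (Perm Ω) a) ⊓ U.Pt 2 (lst F4) = U.im φ (M ⊓ stabilizer (Perm Ω) a ⊓ T) := by
        ext y
        rw [← h5, mem_inf, mem_im_rep, mem_im_rep, mem_im_rep]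
        rfl
      have h7 := ((M ⊓ stabilizer (Perm Ω) a).subgroupOf T).card_mul_index
      rw [show ((M ⊓ stabilizer (Perm Ω) a).subgroupOf T).index = 1408 from (u.relIndex a).trans hΩ, card_of_psi hF4 hψ hr,
        ← inf_subgroupOf_right, Nat.card_congr (subgroupOfEquivOfLe inf_le_right).toEquiv] at h7
      rw [h6, U.card_im φ (inf_le_right.trans u.le)]
      omega)
    (fun d hd => (mem_im_stab u φ a).2 ((congrFun (congrArg DFunLike.coe (h4 _ (sd_l5 d hd))) a).trans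
      (ha _ (mem_sup_right ⟨d, rfl⟩))))
    ((mem_im_stab u φ a).2 ((congrFun (congrArg DFunLike.coe (h4 _ c3_l5)) a).trans (ha _ (mem_sup_left (mem_zpowers _)))))
  refine ⟨S, u, φ, fun t ht => ?_, _, ⟨j, trivial, hj.symm⟩, fun y => ?_⟩
  · obtain ⟨b, rfl⟩ : t ∈ ψ.range := hr ▸ ht
    have h6 : ∀ {S : Subgroup (Perm Ω)} (φ : S ≃* PSU (5 + 1) F4 2) (hS : ψ b ∈ S), rep φ (emb hF4 b) = ψ b →
        φ ⟨ψ b, hS⟩ = emb hF4 b := fun φ hS k => by
      rw [← φ.eq_symm_apply]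
      exact Subtype.ext k.symm
    exact (h6 φ _ (h3 b)).trans (h6 φ₀ _ (k3 b)).symm
  · rw [mem_im_stab u]
    show _ ↔ ((φ.symm (φ y) : S) : Perm Ω) a = a
    rw [φ.symm_apply_apply]

end Cfsg.Agent.SM.Uc.Mo
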