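import Cfsg.Agent.SM.Uc.L34
import Cfsg.Agent.SM.Uc.At
import Cfsg.Agent.S3724
import Cfsg.Agent.S2119
import Cfsg.Agent.S0292

/-!
# SM (S3570): the row `(L₃(4), 280)` in `U₄(3)` has at most three overgroups (helper64)
-/

set_option autoImplicit false
set_option linter.unusedSectionVars false

namespace Cfsg.Agent.SM.Uc

open Cfsg Equiv Subgroup MulAction Matrix Cfsg.Agent.SM.U
open Cfsg.Agent.LieClassical.HermBasic Cfsg.Agent.LieClassical.HermSiegel Cfsg.Agent.LieClassical.HermGen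
open Cfsg.Agent.ClassicalGeometry Cfsg.Agent.ClassicalGeometry.PSUAutCount Cfsg.Agent.H183.OutPSU
open Cfsg.Agent.H674.SUBlock (pr pr_surjective pr_eq_one_iff)

variable {F : Type} [Field F] [Fintype F] {n q : ℕ}
variable {Ω : Type} [Fintype Ω] [DecidableEq Ω] {X H T M S : Subgroup (Perm Ω)}

/-- inner automorphisms -/
theorem inner_of_mem (hF : Fintype.card F = q ^ 2) (hn : 3 ≤ n) {e : S ≃* PSU n F q} {A : GU n F q} {ρ : F ≃+* F}
    {π : Perm Ω} (h : Ind (rep e) (toAut A ρ) π) (hπ : π ∈ S) : ρ = 1 ∧ ∃ c : F, c * c ^ q = 1 ∧ (gm A).det = c ^ n := by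
  obtain ⟨d, rfl⟩ : π ∈ (rep e).range := by rwa [range_rep]
  obtain ⟨g, rfl⟩ := pr_surjective d
  obtain ⟨A', hA'⟩ := exists_GU_of_SU g
  have h1 : toAut A' 1 = toAut A ρ := by
    rw [← cG_apply, cG_of_SU g A' hA']
    exact MulEquiv.ext fun x => rep_injective e (by rw [← h x, ← map_inv, ← map_mul, ← map_mul]; rfl)
  obtain ⟨h4, c, h2, h3⟩ := eq_of_toAut_eq hF hn h1
  exact ⟨h4, c, h2, by rw [h3, det_smul, hA', det_mat, Fintype.card_fin, mul_one]⟩

/-- `|M : S| ≥ 4` for `U₄(3)` on the singular points -/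
theorem not_dvd_two (hF : Fintype.card F = 3 ^ 2) (u : Up X H T M S) {e : S ≃* PSU 4 F 3} {a : Ω} {w : Fin 4 → F}
    (h : At e a w) : ¬ S.relIndex M ∣ 2 := fun h2 => by
  obtain ⟨c, hc, hc2⟩ := exists_b hF
  obtain ⟨A, hA, -⟩ := exists_refl hF (u := (Pi.single 0 1 : Fin 4 → F)) (by simp [hermForm, Pi.single_apply]) hc
  have := charP_three hF
  have : Fact (Nat.Prime 3) := ⟨Nat.prime_three⟩
  have hρ : frobeniusEquiv F 3 ≠ 1 := fun k => by
    have h3 : c ^ 3 = c := congrArg (fun σ : F ≃+* F => σ c) k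
    exact hc2 (by rwa [h3] at hc)
  generalize frobeniusEquiv F 3 = ρ at hρ
  obtain ⟨π, hπ⟩ := h.exists_ind hF (by norm_num) (by norm_num) u (cG 4 3 F A)
  obtain ⟨σ, hσ⟩ := h.exists_ind hF (by norm_num) (by norm_num) u (sG 4 3 F ρ)
  have n1 := range_rep e ▸ hπ.mem_normalizer
  have n2 := range_rep e ▸ hσ.mem_normalizer
  have h3 : π ^ 2 ∉ S := fun k => by
    obtain ⟨-, d, h4, h5⟩ := inner_of_mem hF (by norm_num) (A := A ^ 2) (ρ := 1) (by
      rw [← cG_apply, map_pow]; exact hπ.pow 2) k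
    rw [sq, gm_mul, det_mul, hA, pow_succ' d 3, h4] at h5
    exact hc2 h5
  have h4 : ∀ k : ℕ, π ^ k * σ ∉ S := fun k hk => hρ (inner_of_mem hF (by norm_num) (A := A ^ k) (by
    rw [toAut_eq, map_pow]; exact (hπ.pow k).mul hσ) hk).1
  have h5 : ∀ x ∈ M, ∀ y ∈ M, x ∉ S → y ∉ S → x * y ∈ S := fun x hx y hy k k' => by
    rcases (Nat.dvd_prime Nat.prime_two).1 h2 with h6 | h6
    · exact absurd (relIndex_eq_one.1 h6 hx) k
    · exact (mul_mem_iff_of_index_two (H := S.subgroupOf M) h6 (a := ⟨x, hx⟩) (b := ⟨y, hy⟩)).2 (iff_of_false k k')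
  have h6 := u.sq_mem n1
  rcases u.mem_or n1 n2 with k | k | k
  · exact h3 (sq π ▸ h5 _ k _ k (fun k' => h3 (S.pow_mem k' 2)) fun k' => h3 (S.pow_mem k' 2))
  · exact h4 2 (h5 _ h6 _ k h3 (by simpa using h4 0))
  · exact h4 3 (by rw [pow_succ, mul_assoc]; exact h5 _ h6 _ k h3 (by simpa using h4 1))

theorem card_A8 : Nat.card (alternatingGroup (Fin 8)) = 20160 := by
  have h2 : 2 * Nat.card (alternatingGroup (Fin 8)) = 40320 := by
    rw [Nat.card_eq_fintype_card, two_mul_card_alternatingGroup, Fintype.card_perm, Fintype.card_fin]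
    decide
  omega

theorem dvd_two (u : Up X H T M S) (e : T ≃* alternatingGroup (Fin 8)) : S.relIndex M ∣ 2 := by
  refine u.relIndex_dvd.trans ?_
  have h1 := card_dvd_of_injective _ u.socH.as.aut_injective
  rw [Nat.card_congr (MulAut.congr e).toEquiv,
    ← Nat.card_congr (Equiv.ofBijective _ (S2119.result 8 (by norm_num) (by norm_num))), ← (T.subgroupOf H).card_mul_index,
    Nat.card_congr (subgroupOfEquivOfLe u.socH.le).toEquiv, Nat.card_congr e.toEquiv, card_A8, Nat.card_perm,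
    Nat.card_fin, show Nat.factorial 8 = 20160 * 2 by decide] at h1
  exact Nat.dvd_of_mul_dvd_mul_left (by norm_num) h1

/-- the simple groups of order 20160 -/
theorem iso_cases {G : Type} [Group G] [Finite G] [IsSimpleGroup G] (h : Nat.card G = 20160) :
    Nonempty (G ≃* alternatingGroup (Fin 8)) ∨
      Nonempty (ProjectiveSpecialLinearGroup (Fin 3) SporadicA.FieldFour.F4 ≃* G) := by
  have : IsSimpleGroup (alternatingGroup (Fin 8)) := alternatingGroup.isSimpleGroup (by simp)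
  rcases S3724.result (h.trans card_A8.symm) with h1 | (⟨h1, -⟩ | ⟨-, K, _, _, hK, ⟨e⟩⟩) | ⟨K, _, _, m, hodd, hm, h1⟩
  · exact .inl h1
  · exact .inl h1
  · obtain ⟨e'⟩ := SporadicA.FieldFour.nonempty_psl_equiv (n := Fin 3) K hK
    exact .inr ⟨e'.trans e.symm⟩
  · exfalso
    have h2 : Nat.card (POmega K (quadFormOdd m K)) = 20160 := by
      rcases h1 with ⟨⟨e⟩, -⟩ | ⟨⟨e⟩, -⟩
      · rw [← h, Nat.card_congr e.toEquiv]
      · rw [← card_A8, Nat.card_congr e.toEquiv]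
    have h3 := S0292.result (F := K) rfl hodd m hm
    rw [h2] at h3
    have h4 : Fintype.card K ^ m ^ 2 ∣ 2 ^ 7 * 315 := Dvd.intro _ h3.symm
    have h5 := Nat.le_of_dvd (by norm_num) (Nat.Coprime.dvd_of_dvd_mul_left
      (Nat.Coprime.pow_right 7 (Nat.coprime_two_right.2 hodd.pow)) h4)
    have h6 : 3 ≤ Fintype.card K := by
      have := Fintype.one_lt_card (α := K)
      obtain ⟨k, hk⟩ := hodd
      omega
    have h7 := (Nat.pow_le_pow_left h6 _).trans h5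
    have h8 := (Nat.pow_le_pow_right (by norm_num : 0 < 3) (Nat.pow_le_pow_left hm 2)).trans h7
    norm_num at h8

theorem card_sieg (hF : Fintype.card F = 3 ^ 2) {w : Fin 4 → F} (h0 : w ≠ 0) {hw : hermForm 4 F 3 w w = 0}
    (h : Nat.card (PSUAutBasic.siegG hF w hw) ≤ 280) : Nat.card (PSUAutBasic.siegG hF w hw) = 243 := by
  have := charP_three hF
  have : Fact (Nat.Prime 3) := ⟨Nat.prime_three⟩
  have h1 : 243 ≤ _ := card_siegG' hF (by norm_num) h0 hw
  have := Nat.finite_of_card_ne_zero (α := PSUAutBasic.siegG hF w hw) (by omega)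
  obtain ⟨k, hk⟩ := IsPGroup.iff_card.1 (PSUAutBasic.isPGroup_siegG hF 3 hw)
  rw [hk] at h h1 ⊢
  have h2 := (Nat.pow_le_pow_iff_right (by norm_num : 1 < 3)).1 (show 3 ^ 5 ≤ 3 ^ k from h1)
  have h3 := (Nat.pow_lt_pow_iff_right (by norm_num : 1 < 3)).1 (show 3 ^ k < 3 ^ 6 from h.trans_lt (by norm_num))
  rw [show k = 5 by omega]
  rfl

/-- **The row `(L₃(4), 280)`.** -/
theorem row280 (X H T : Subgroup (Perm Ω)) (hT : Nat.card T = 20160) (hΩ : Fintype.card Ω = 280) {O : Set (Subgroup (Perm Ω))}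
    (h : ∀ M ∈ O, ∃ S, Up X H T M S ∧ ∃ (F : Type) (_ : Field F) (_ : Fintype F), Fintype.card F = 3 ^ 2 ∧
      Nonempty (S ≃* PSU 4 F 3)) : O.ncard ≤ 3 := by
  rcases O.eq_empty_or_nonempty with rfl | ⟨M₀, h₀⟩
  · simp
  obtain ⟨S₀, u₀, F₀, _, _, hF₀, ⟨e₀⟩⟩ := h M₀ h₀
  have := u₀.socH.simple
  rcases iso_cases hT with ⟨⟨e⟩⟩ | ⟨⟨e⟩⟩
  · obtain ⟨a⟩ : Nonempty Ω := Fintype.card_pos_iff.1 (by omega)
    obtain ⟨w, hw⟩ := At.of_index hF₀ (by norm_num) u₀ e₀ a fun B hB => eq_Sb280 hF₀ B (hB.trans hΩ)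
    exact absurd (dvd_two u₀ e) (not_dvd_two hF₀ u₀ hw)
  let ψ : L34.G3 →* Perm Ω := (T.subtype.comp e.toMonoidHom).comp (QuotientGroup.mk' (center L34.G3))
  have hψ : ∀ g, ψ g ∈ T := fun g => (e _).2
  obtain ⟨a, ha⟩ := L34.three ψ (by
    have h1 : QuotientGroup.mk' (center L34.G3) L34.gz = 1 := (QuotientGroup.eq_one_iff _).2 (mem_center_iff.2 fun g =>
      Subtype.ext (by
        show g.1 * L34.gz.1 = L34.gz.1 * g.1
        rw [show L34.gz.1 = SporadicA.FieldFour.F4.w • (1 : L34.M3) by decide +kernel, mul_smul_comm, smul_mul_assoc, mul_one,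
          one_mul]))
    show T.subtype (e (QuotientGroup.mk' (center L34.G3) L34.gz)) = 1
    rw [h1, map_one, map_one]) (fun x y => by
      obtain ⟨t, ht, k⟩ := u₀.trans x y
      obtain ⟨g, hg⟩ := QuotientGroup.mk'_surjective (center L34.G3) (e.symm ⟨t, ht⟩)
      refine ⟨g, ?_⟩
      show (e (QuotientGroup.mk' (center L34.G3) g) : Perm Ω) x = y
      rw [hg, e.apply_symm_apply, k]) hΩ
  refine (ncard_le_of_soc_nbhd (X := X) (H := H) (T := T) a fun M hM => ?_).trans ha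
  obtain ⟨S, u, F, _, _, hF, ⟨φ⟩⟩ := h M hM
  obtain ⟨w, hw⟩ := At.of_index hF (by norm_num) u φ a fun B hB => eq_Sb280 hF B (hB.trans hΩ)
  obtain ⟨D, h1, h2, h3⟩ := exists_far hF (by norm_num) ((rep φ).comp pr) hw.ne hw.iso fun g =>
    (hw.fix _).trans (mem_Pt hF (by norm_num))
  rw [card_sieg hF hw.ne (h3 ▸ (Set.ncard_le_card D).trans_eq (Nat.card_eq_fintype_card.trans hΩ))] at h3
  have h4 : ∀ g ∈ S, g a = a → ∀ x ∈ D, g x ∈ D := fun g hg k => by
    obtain ⟨s, rfl⟩ : g ∈ (rep φ).range := by rwa [range_rep]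
    obtain ⟨s, rfl⟩ := pr_surjective s
    exact h2 s k
  refine ⟨S, u, D, ⟨h1, fun g => h4 _ (u.le (hψ g)), h3⟩, h4, ?_, ?_⟩
  · obtain ⟨b, hb⟩ := Set.nonempty_of_ncard_ne_zero (s := D) (by omega)
    exact ⟨b, hb, fun k => h1 (k ▸ hb)⟩
  · have h5 := Set.ncard_add_ncard_compl D
    rw [Nat.card_eq_fintype_card] at h5
    obtain ⟨c, hc, k⟩ := Set.exists_ne_of_one_lt_ncard (s := Dᶜ) (by omega) a
    exact ⟨c, hc, k⟩

end Cfsg.Agent.SM.Uc
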